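import Cfsg.Agent.H41.McLTwo.Elts

/-!
# The action of the outer automorphisms on the classes of `McL` (helper41, task 5084)

From a list of the classes with orders and centralizer orders: `α t ~ t⁻¹` for the elements `t` of order 7, 9, 14, 15, 30
and `α t ~ t` for the other elements.
-/

set_option autoImplicit false

namespace Cfsg.Agent.H41.McLTwo

open Cfsg

universe u

/-- the orders of the classes interchanged by the outer automorphisms -/
def Sw (n : ℕ) : Bool := n == 7 || n == 9 || n == 14 || n == 15 || n == 30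

theorem sw_cases {n : ℕ} (h : Sw n = true) : n = 7 ∨ n = 9 ∨ n = 14 ∨ n = 15 ∨ n = 30 := by
  simp only [Sw, Bool.or_eq_true, beq_iff_eq] at h
  tauto

/-- A list of the classes with orders, centralizer orders and inverses. -/
structure Cls (T : Type u) [Group T] (k : ℕ) where
  x : Fin k → T
  o : Fin k → ℕ
  c : Fin k → ℕ
  inv : Fin k → Fin k
  cover : ∀ g : T, ∃ i, IsConj (x i) g
  inj : ∀ i j, IsConj (x i) (x j) → i = j
  order : ∀ i, orderOf (x i) = o i
  card : ∀ i, Nat.card (Subgroup.centralizer ({x i} : Set T)) = c i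
  hinv : ∀ i, IsConj (x (inv i)) (x i)⁻¹

variable {T : Type u} [Group T] {k : ℕ}

theorem isConj_inv {a b : T} (h : IsConj a b) : IsConj a⁻¹ b⁻¹ := by
  obtain ⟨g, hg⟩ := isConj_iff.1 h
  exact isConj_iff.2 ⟨g, by rw [← hg]; group⟩

theorem orderOf_isConj {a b : T} (h : IsConj a b) : orderOf a = orderOf b := by
  obtain ⟨g, rfl⟩ := isConj_iff.1 h
  exact (orderOf_injective (MulAut.conj g).toMonoidHom (MulAut.conj g).injective a).symm

theorem card_cent_aut (α : MulAut T) (a : T) :
    Nat.card (Subgroup.centralizer ({α a} : Set T)) = Nat.card (Subgroup.centralizer ({a} : Set T)) := by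
  refine (Nat.card_congr (α.toEquiv.subtypeEquiv fun c => ?_)).symm
  rw [Subgroup.mem_centralizer_singleton_iff, Subgroup.mem_centralizer_singleton_iff]
  show c * a = a * c ↔ α c * α a = α a * α c
  rw [← map_mul, ← map_mul]
  exact α.injective.eq_iff.symm

theorem card_cent_isConj {a b : T} (h : IsConj a b) :
    Nat.card (Subgroup.centralizer ({a} : Set T)) = Nat.card (Subgroup.centralizer ({b} : Set T)) := by
  obtain ⟨g, rfl⟩ := isConj_iff.1 h
  exact (card_cent_aut (MulAut.conj g) a).symm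

theorem isConj_aut (α : MulAut T) {a b : T} (h : IsConj a b) : IsConj (α a) (α b) := by
  obtain ⟨g, rfl⟩ := isConj_iff.1 h
  exact isConj_iff.2 ⟨α g, by rw [map_mul, map_mul, map_inv]⟩

namespace Cls

variable (C : Cls T k)

theorem o_eq {i : Fin k} {t : T} (h : IsConj (C.x i) t) : C.o i = orderOf t := by
  rw [← C.order, orderOf_isConj h]

theorem c_eq {i : Fin k} {t : T} (h : IsConj (C.x i) t) :
    C.c i = Nat.card (Subgroup.centralizer ({t} : Set T)) := by
  rw [← C.card, card_cent_isConj h]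

/-- the classes of a swapped order: `t'` is conjugate to `t` or `t⁻¹` -/
theorem two {n : ℕ} (h2 : ∀ i j, C.o i = n → C.o j = n → j = i ∨ j = C.inv i) {t t' : T} (ht : orderOf t = n)
    (ht' : orderOf t' = n) : IsConj t t' ∨ IsConj t⁻¹ t' := by
  obtain ⟨i, hi⟩ := C.cover t
  obtain ⟨j, hj⟩ := C.cover t'
  rcases h2 i j ((C.o_eq hi).trans ht) ((C.o_eq hj).trans ht') with rfl | rfl
  · exact Or.inl (hi.symm.trans hj)
  · exact Or.inr (((isConj_inv hi).symm.trans (C.hinv i).symm).trans hj)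

theorem swap (hT : Spor.IsoMcL T) (h2 : ∀ i j, Sw (C.o i) = true → C.o i = C.o j → j = i ∨ j = C.inv i)
    {α : MulAut T} (hα : ¬ ∃ s, α = MulAut.conj s) {t : T} (ht : Sw (orderOf t) = true) : IsConj (α t) t⁻¹ := by
  obtain ⟨y, hy, hc⟩ := inv_of_iso hT (sw_cases ht)
  have h := hc α hα
  have h3 : ∀ i j, C.o i = orderOf t → C.o j = orderOf t → j = i ∨ j = C.inv i := by
    intro i j hi hj
    exact h2 i j (by rw [hi]; exact ht) (by rw [hi, hj])
  rcases C.two h3 (t := t) (t' := y) rfl hy with h1 | h1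
  · exact ((isConj_aut α h1).trans h).trans (isConj_inv h1).symm
  · have h4 := isConj_inv (isConj_aut α h1)
    rw [map_inv, inv_inv] at h4
    have h5 := isConj_inv h
    rw [inv_inv] at h5
    exact (h4.trans h5).trans h1.symm

/-- the elements of order 11 -/
theorem eleven (hT : Spor.IsoMcL T) (h2 : ∀ i j, C.o i = 11 → C.o j = 11 → j = i ∨ j = C.inv i)
    {α : MulAut T} (hα : ¬ ∃ s, α = MulAut.conj s) {t : T} (ht : orderOf t = 11) : IsConj (α t) t := by
  obtain ⟨y, hy, hc⟩ := eleven_iso hT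
  have h := hc α hα
  rcases C.two h2 (t := t) (t' := y) ht hy with h1 | h1
  · exact ((isConj_aut α h1).trans h).trans h1.symm
  · have h4 := isConj_inv (isConj_aut α h1)
    rw [map_inv, inv_inv] at h4
    have h5 := isConj_inv h
    have h6 := isConj_inv h1
    rw [inv_inv] at h6
    exact (h4.trans h5).trans h6.symm

/-- the other elements -/
theorem stay (hT : Spor.IsoMcL T) (h2 : ∀ i j, C.o i = 11 → C.o j = 11 → j = i ∨ j = C.inv i)
    (h3 : ∀ i j, Sw (C.o i) = false → C.o i ≠ 11 → C.o i = C.o j → C.c i = C.c j → i = j)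
    {α : MulAut T} (hα : ¬ ∃ s, α = MulAut.conj s) {t : T} (ht : Sw (orderOf t) = false) : IsConj (α t) t := by
  by_cases h11 : orderOf t = 11
  · exact C.eleven hT h2 hα h11
  obtain ⟨i, hi⟩ := C.cover t
  obtain ⟨j, hj⟩ := C.cover (α t)
  have e1 : C.o j = C.o i := by
    rw [C.o_eq hj, C.o_eq hi]
    exact orderOf_injective α.toMonoidHom α.injective t
  have e2 : C.c j = C.c i := by rw [C.c_eq hj, C.c_eq hi, card_cent_aut]
  have e3 := h3 i j (by rw [C.o_eq hi]; exact ht) (by rw [C.o_eq hi]; exact h11) e1.symm e2.symm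
  subst e3
  exact hj.symm.trans hi

/-- the number of invariant classes -/
theorem card_inv (hT : Spor.IsoMcL T)
    (h1 : ∀ i j, Sw (C.o i) = true → C.o i = C.o j → j = i ∨ j = C.inv i)
    (h1' : ∀ i, Sw (C.o i) = true → C.inv i ≠ i)
    (h2 : ∀ i j, C.o i = 11 → C.o j = 11 → j = i ∨ j = C.inv i)
    (h3 : ∀ i j, Sw (C.o i) = false → C.o i ≠ 11 → C.o i = C.o j → C.c i = C.c j → i = j)
    {α : MulAut T} (hα : ¬ ∃ s, α = MulAut.conj s) :
    Nat.card {D : ConjClasses T // ConjClasses.map (α : T ≃* T).toMonoidHom D = D} =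
      (Finset.univ.filter fun i : Fin k => Sw (C.o i) = false).card := by
  classical
  rw [← Fintype.card_subtype, ← Nat.card_eq_fintype_card]
  symm
  refine Nat.card_congr (Equiv.ofBijective (fun i => ⟨ConjClasses.mk (C.x i.1), ?_⟩) ⟨?_, ?_⟩)
  · show ConjClasses.mk (α (C.x i.1)) = ConjClasses.mk (C.x i.1)
    rw [ConjClasses.mk_eq_mk_iff_isConj]
    exact C.stay hT h2 h3 hα (by rw [C.order]; exact i.2)
  · intro i j hij
    have h := congrArg Subtype.val hij
    exact Subtype.ext (C.inj _ _ (ConjClasses.mk_eq_mk_iff_isConj.1 h))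
  · rintro ⟨D, hD⟩
    obtain ⟨g, rfl⟩ := ConjClasses.mk_surjective D
    obtain ⟨i, hi⟩ := C.cover g
    refine ⟨⟨i, ?_⟩, Subtype.ext (ConjClasses.mk_eq_mk_iff_isConj.2 hi)⟩
    by_contra hs
    have hs' : Sw (C.o i) = true := by simpa using hs
    have h4 : IsConj (α g) g := ConjClasses.mk_eq_mk_iff_isConj.1 hD
    have h5 : IsConj (α g) g⁻¹ := C.swap hT h1 hα (by rw [← C.o_eq hi]; exact hs')
    have h6 : IsConj (C.x (C.inv i)) (C.x i) :=
      (C.hinv i).trans (((isConj_inv hi).trans (h5.symm.trans h4)).trans hi.symm)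
    exact h1' i hs' (C.inj _ _ h6)

end Cls

end Cfsg.Agent.H41.McLTwo
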