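import Cfsg.Agent.H348.PPD.Dich
import Cfsg.Agent.H348.PPD.IndexTwo
import Cfsg.Agent.HKS.CosetTwo

/-!
# Counting the irreducible characters over a normal subgroup of index two (helper41, task 5084)

`card_two` : `2 #{χ ∈ Irr(W) : D(χ(1))} = 4 #{ψ ∈ Irr(N) invariant : D(ψ(1))} + #{ψ ∈ Irr(N) not invariant : D(ψ(1))}` for a
predicate `D` with `D (2 n) ↔ D n`.
-/

set_option autoImplicit false

open scoped ComplexConjugate
open Cfsg Cfsg.Agent.Characters.Core Cfsg.Agent.Characters.Clifford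
open Cfsg.Agent.HKS.CosetTwo (sg sg_of_mem sg_of_notMem isIrr_mul_sg)

namespace Cfsg.Agent.H41.McLTwo.Cliff

universe u

variable {W : Type u} [Group W]

/-- `ψ` is invariant in `W` -/
def Inv (N : Subgroup W) [N.Normal] (ψ : IrrCharacter N) : Prop :=
  ∀ g : W, (ψ : N → ℂ) ∘ (MulAut.conjNormal g : MulAut N) = ψ

/-- `χ` vanishes off `N` -/
def Van (N : Subgroup W) (χ : IrrCharacter W) : Prop := ∀ g : W, g ∉ N → (χ : W → ℂ) g = 0

variable [Finite W] {N : Subgroup W} [N.Normal]

omit [Finite W] in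
theorem restrict_conj (χ : IrrCharacter W) (g : W) (n : N) :
    (χ : W → ℂ) ((MulAut.conjNormal g : MulAut N) n : N) = (χ : W → ℂ) n := by
  rw [MulAut.conjNormal_apply]
  exact isIrr_isClassFunction χ.2 _ _

omit [Finite W] in
theorem inv_of_ext {χ : IrrCharacter W} {ψ : IrrCharacter N} (h : ∀ n : N, (χ : W → ℂ) n = (ψ : N → ℂ) n) :
    Inv N ψ := by
  intro g
  funext n
  show (ψ : N → ℂ) ((MulAut.conjNormal g : MulAut N) n) = (ψ : N → ℂ) n
  rw [← h, ← h, restrict_conj]

omit [N.Normal] in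
/-- two characters with the same irreducible restriction -/
theorem eq_or_of_restrict [Fintype W] [Fintype N] (hN : N.index = 2) {χ χ' : IrrCharacter W} {ψ : IrrCharacter N}
    (h : ∀ n : N, (χ : W → ℂ) n = (ψ : N → ℂ) n) (h' : ∀ n : N, (χ' : W → ℂ) n = (ψ : N → ℂ) n) :
    χ' = χ ∨ (χ' : W → ℂ) = (χ : W → ℂ) * sg hN := by
  classical
  by_contra hcon
  push Not at hcon
  obtain ⟨h1, h2⟩ := hcon
  have e1 : classInner (χ' : W → ℂ) (χ : W → ℂ) = 0 :=
    classInner_irr_ne χ'.2 χ.2 fun h3 => h1 (Subtype.ext h3)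
  have e2 : classInner (χ' : W → ℂ) ((χ : W → ℂ) * sg hN) = 0 :=
    classInner_irr_ne χ'.2 (isIrr_mul_sg hN χ.2) h2
  have e3 : classInner (ψ : N → ℂ) (ψ : N → ℂ) = 1 := classInner_irr_self ψ.2
  rw [classInner_def] at e1 e2 e3
  have hW : (Nat.card W : ℂ) ≠ 0 := by exact_mod_cast Nat.card_pos.ne'
  have hNc : (Nat.card N : ℂ) ≠ 0 := by exact_mod_cast Nat.card_pos.ne'
  have e1' : ∑ g : W, (χ' : W → ℂ) g * conj ((χ : W → ℂ) g) = 0 := by
    rcases mul_eq_zero.1 e1 with h3 | h3
    · exact absurd h3 (by simp)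
    · exact h3
  have e2' : ∑ g : W, (χ' : W → ℂ) g * conj (((χ : W → ℂ) * sg hN) g) = 0 := by
    rcases mul_eq_zero.1 e2 with h3 | h3
    · exact absurd h3 (by simp)
    · exact h3
  have e4 : ∑ g : W, ((χ' : W → ℂ) g * conj ((χ : W → ℂ) g) + (χ' : W → ℂ) g * conj (((χ : W → ℂ) * sg hN) g)) = 0 := by
    rw [Finset.sum_add_distrib, e1', e2', add_zero]
  have e5 := H348.PPD.IndexTwo.sum_of_vanish N
    (F := fun g => (χ' : W → ℂ) g * conj ((χ : W → ℂ) g) + (χ' : W → ℂ) g * conj (((χ : W → ℂ) * sg hN) g))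
    (fun g hg => by
      simp only [Pi.mul_apply, sg_of_notMem hN hg]
      rw [mul_neg_one, map_neg]
      ring)
  rw [e4] at e5
  have e6 : ∑ n : N, ((χ' : W → ℂ) n * conj ((χ : W → ℂ) n) + (χ' : W → ℂ) n * conj (((χ : W → ℂ) * sg hN) (n : W))) =
      2 * ∑ n : N, (ψ : N → ℂ) n * conj ((ψ : N → ℂ) n) := by
    rw [Finset.mul_sum]
    refine Finset.sum_congr rfl fun n _ => ?_
    simp only [Pi.mul_apply, sg_of_mem hN n.2, mul_one]
    rw [h, h']
    ring
  rw [e6] at e5
  have e7 : ∑ n : N, (ψ : N → ℂ) n * conj ((ψ : N → ℂ) n) = 0 := by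
    have := e5.symm
    simpa using this
  rw [e7, mul_zero] at e3
  exact zero_ne_one e3

/-- number of extensions -/
theorem card_ext [Fintype W] [Fintype N] [Fintype (IrrCharacter W)] (hN : N.index = 2) {ψ : IrrCharacter N}
    (hψ : Inv N ψ) : ∃ χ χ' : IrrCharacter W, χ ≠ χ' ∧ ¬ Van N χ ∧ ¬ Van N χ' ∧
      ∀ η : IrrCharacter W, (∀ n : N, (η : W → ℂ) n = (ψ : N → ℂ) n) ↔ (η = χ ∨ η = χ') := by
  classical
  obtain ⟨g, hg⟩ : ∃ g, g ∉ N := by
    by_contra h
    push Not at h
    have : N = ⊤ := by ext x; simp [h x]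
    rw [this, Subgroup.index_top] at hN
    norm_num at hN
  rcases H348.PPD.Dich.dich N hN ψ.2 with ⟨χ, hχ, he⟩ | ⟨χ, hχ, -, hv⟩
  · have hnv : ∀ η : IrrCharacter W, (∀ n : N, (η : W → ℂ) n = (ψ : N → ℂ) n) → ¬ Van N η := by
      intro η hη hv
      have h1 := H348.PPD.IndexTwo.inner_half N hN (θ := (η : W → ℂ)) (ζ := (η : W → ℂ)) hv
      rw [classInner_irr_self η.2] at h1
      have h2 : (fun y : N => (η : W → ℂ) y) = (ψ : N → ℂ) := funext hη
      rw [h2, classInner_irr_self ψ.2] at h1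
      norm_num at h1
    let a : IrrCharacter W := ⟨χ, hχ⟩
    let b : IrrCharacter W := ⟨χ * sg hN, isIrr_mul_sg hN hχ⟩
    have hbr : ∀ n : N, (b : W → ℂ) n = (ψ : N → ℂ) n := by
      intro n
      show χ n * sg hN n = _
      rw [sg_of_mem hN n.2, mul_one, he]
    refine ⟨a, b, ?_, hnv a he, hnv b hbr, fun η => ⟨fun h => ?_, ?_⟩⟩
    · intro hab
      apply hnv a he
      intro y hy
      have h1 := congrArg (fun η : IrrCharacter W => (η : W → ℂ) y) hab
      have h2 : χ y = χ y * sg hN y := h1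
      rw [sg_of_notMem hN hy] at h2
      show χ y = 0
      linear_combination h2 / 2
    · rcases eq_or_of_restrict hN (χ := a) he h with h1 | h1
      · exact Or.inl h1
      · exact Or.inr (Subtype.ext h1)
    · rintro (rfl | rfl)
      · exact he
      · exact hbr
  · exact absurd (hψ g) (hv g hg).2

/-- the character over a moved character -/
theorem moved [Fintype W] [Fintype N] (hN : N.index = 2) {ψ : IrrCharacter N} (hψ : ¬ Inv N ψ) :
    ∃ χ : IrrCharacter W, Van N χ ∧ classInner (fun n : N => (χ : W → ℂ) n) (ψ : N → ℂ) ≠ 0 ∧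
      ∀ η : IrrCharacter W, Van N η → classInner (fun n : N => (η : W → ℂ) n) (ψ : N → ℂ) ≠ 0 → η = χ := by
  classical
  obtain ⟨g, hg⟩ : ∃ g, g ∉ N := by
    by_contra h
    push Not at h
    have : N = ⊤ := by ext x; simp [h x]
    rw [this, Subgroup.index_top] at hN
    norm_num at hN
  rcases H348.PPD.Dich.dich N hN ψ.2 with ⟨χ, hχ, he⟩ | ⟨χ, hχ, hvan, hv⟩
  · exact absurd (inv_of_ext (χ := ⟨χ, hχ⟩) he) hψ
  · obtain ⟨h1, h2⟩ := hv g hg
    have hirr : IsIrrCharacter N ((ψ : N → ℂ) ∘ (MulAut.conjNormal g : MulAut N)) := isIrr_conjNormal ψ.2 g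
    have e1 : (fun n : N => χ n) = (ψ : N → ℂ) + (ψ : N → ℂ) ∘ (MulAut.conjNormal g : MulAut N) := funext h1
    have e2 : ∀ ζ : N → ℂ, IsIrrCharacter N ζ → classInner (fun n : N => χ n) ζ =
        (if (ψ : N → ℂ) = ζ then 1 else 0) + (if (ψ : N → ℂ) ∘ (MulAut.conjNormal g : MulAut N) = ζ then 1 else 0) := by
      intro ζ hζ
      rw [e1, classInner_add_left, classInner_irr ψ.2 hζ, classInner_irr hirr hζ]
    refine ⟨⟨χ, hχ⟩, hvan, ?_, fun η hη hne => ?_⟩
    · show classInner (fun n : N => χ n) (ψ : N → ℂ) ≠ 0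
      rw [e2 _ ψ.2, if_pos rfl, if_neg h2, add_zero]
      exact one_ne_zero
    · by_contra hcon
      have e3 : classInner (χ : W → ℂ) (η : W → ℂ) = 0 :=
        classInner_irr_ne hχ η.2 fun h3 => hcon (Subtype.ext h3.symm)
      have e4 := H348.PPD.IndexTwo.inner_half N hN (θ := χ) (ζ := (η : W → ℂ)) hvan
      rw [e3, mul_zero] at e4
      have hc1 : classInner (fun n : N => (η : W → ℂ) n) ((ψ : N → ℂ) ∘ (MulAut.conjNormal g : MulAut N)) =
          classInner (fun n : N => (η : W → ℂ) n) (ψ : N → ℂ) :=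
        classInner_restrict_conjNormal (isIrr_isClassFunction η.2) (ψ : N → ℂ) g
      have e5 : classInner (fun y : N => χ y) (fun y : N => (η : W → ℂ) y) =
          2 * conj (classInner (fun n : N => (η : W → ℂ) n) (ψ : N → ℂ)) := by
        rw [e1, classInner_add_left, ← classInner_conj_symm, ← classInner_conj_symm (fun n : N => (η : W → ℂ) n), hc1]
        ring
      rw [e5] at e4
      apply hne
      have e6 : conj (classInner (fun n : N => (η : W → ℂ) n) (ψ : N → ℂ)) = 0 := by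
        simpa using e4.symm
      simpa using e6

/-- the constituents of a character vanishing off `N` -/
theorem two_of_van [Fintype W] [Fintype N] (hN : N.index = 2) {χ : IrrCharacter W} (hχ : Van N χ) :
    ∃ η η' : IrrCharacter N, η ≠ η' ∧ ¬ Inv N η ∧ ¬ Inv N η' ∧ (χ : W → ℂ) 1 = 2 * (η : N → ℂ) 1 ∧
      (χ : W → ℂ) 1 = 2 * (η' : N → ℂ) 1 ∧
      ∀ ζ : IrrCharacter N, classInner (fun n : N => (χ : W → ℂ) n) (ζ : N → ℂ) ≠ 0 ↔ (ζ = η ∨ ζ = η') := by
  classical
  obtain ⟨η, η', hne, h1, hs⟩ := H348.PPD.IndexTwo.split_of_vanish N hN χ.2 hχ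
  have hne' : (η : N → ℂ) ≠ (η' : N → ℂ) := fun h => hne (Subtype.ext h)
  have e1 : (fun n : N => (χ : W → ℂ) n) = (η : N → ℂ) + (η' : N → ℂ) := funext hs
  have e2 : ∀ ζ : IrrCharacter N, classInner (fun n : N => (χ : W → ℂ) n) (ζ : N → ℂ) =
      (if (η : N → ℂ) = ζ then 1 else 0) + (if (η' : N → ℂ) = ζ then 1 else 0) := by
    intro ζ
    rw [e1, classInner_add_left, classInner_irr η.2 ζ.2, classInner_irr η'.2 ζ.2]
  have e3 : ∀ ζ : IrrCharacter N, classInner (fun n : N => (χ : W → ℂ) n) (ζ : N → ℂ) ≠ 0 ↔ (ζ = η ∨ ζ = η') := by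
    intro ζ
    rw [e2]
    by_cases ha : (η : N → ℂ) = ζ
    · by_cases hb : (η' : N → ℂ) = ζ
      · exact absurd (ha.trans hb.symm) hne'
      · rw [if_pos ha, if_neg hb, add_zero]
        exact ⟨fun _ => Or.inl (Subtype.ext ha.symm), fun _ => one_ne_zero⟩
    · by_cases hb : (η' : N → ℂ) = ζ
      · rw [if_neg ha, if_pos hb, zero_add]
        exact ⟨fun _ => Or.inr (Subtype.ext hb.symm), fun _ => one_ne_zero⟩
      · rw [if_neg ha, if_neg hb, add_zero]
        refine ⟨fun h => absurd rfl h, ?_⟩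
        rintro (h | h)
        · exact absurd (congrArg Subtype.val h).symm ha
        · exact absurd (congrArg Subtype.val h).symm hb
  -- an invariant constituent extends
  have hni : ∀ ζ : IrrCharacter N, (ζ = η ∨ ζ = η') → ¬ Inv N ζ := by
    intro ζ hζ hinv
    have := finite_irr (G := W)
    have := Fintype.ofFinite (IrrCharacter W)
    obtain ⟨φ, φ2, -, -, -, hφ⟩ := card_ext hN hinv
    have h2 : ∀ n : N, (φ : W → ℂ) n = (ζ : N → ℂ) n := (hφ φ).2 (Or.inl rfl)
    have h3 := H348.PPD.IndexTwo.inner_half N hN (θ := (χ : W → ℂ)) (ζ := (φ : W → ℂ)) hχ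
    rw [show (fun y : N => (φ : W → ℂ) y) = (ζ : N → ℂ) from funext h2, e2, classInner_irr χ.2 φ.2] at h3
    rcases hζ with rfl | rfl
    · rw [if_pos rfl, if_neg hne'.symm] at h3
      split_ifs at h3 <;> norm_num at h3
    · rw [if_pos rfl, if_neg hne'] at h3
      split_ifs at h3 <;> norm_num at h3
  have h4 : (χ : W → ℂ) 1 = (η : N → ℂ) 1 + (η' : N → ℂ) 1 := by
    have := hs 1
    simpa using this
  refine ⟨η, η', hne, hni _ (Or.inl rfl), hni _ (Or.inr rfl), ?_, ?_, e3⟩
  · rw [h4, ← h1]; ring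
  · rw [h4, h1]; ring

/-- the restriction of a character which does not vanish off `N` -/
theorem restrict_of_not_van (hN : N.index = 2) {χ : IrrCharacter W} (hχ : ¬ Van N χ) :
    ∃ ψ : IrrCharacter N, Inv N ψ ∧ ∀ n : N, (χ : W → ℂ) n = (ψ : N → ℂ) n := by
  unfold Van at hχ
  push Not at hχ
  obtain ⟨y, hy, hne⟩ := hχ
  exact ⟨⟨_, Cfsg.Agent.HKS.CosetTwo.isIrr_restrict hN χ.2 hy hne⟩, inv_of_ext (χ := χ) fun _ => rfl, fun _ => rfl⟩

theorem charDegree_of {G : Type u} [Group G] {χ : G → ℂ} {H : Type u} [Group H] {ψ : H → ℂ} (h : χ 1 = ψ 1) :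
    charDegree χ = charDegree ψ := by
  unfold charDegree
  rw [h]

theorem charDegree_two {G : Type u} [Group G] {H : Type u} [Group H] [Finite H] {χ : G → ℂ} {ψ : H → ℂ}
    (hψ : IsIrrCharacter H ψ) (h : χ 1 = 2 * ψ 1) : charDegree χ = 2 * charDegree ψ := by
  obtain ⟨n, -, hn⟩ := isIrr_apply_one hψ
  unfold charDegree
  rw [h, hn]
  have h1 : ((2 : ℂ) * (n : ℂ)).re = ((2 * n : ℕ) : ℝ) := by
    rw [← Complex.natCast_re]
    push_cast
    rfl
  rw [h1, Nat.floor_natCast, Complex.natCast_re, Nat.floor_natCast]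

/-- **Counting over a normal subgroup of index two.** -/
theorem card_two (hN : N.index = 2) (D : ℕ → Prop) (hD : ∀ n, D (2 * n) ↔ D n) :
    2 * Nat.card {χ : IrrCharacter W // D (charDegree (χ : W → ℂ))} =
      4 * Nat.card {ψ : IrrCharacter N // D (charDegree (ψ : N → ℂ)) ∧ Inv N ψ} +
        Nat.card {ψ : IrrCharacter N // D (charDegree (ψ : N → ℂ)) ∧ ¬ Inv N ψ} := by
  classical
  have := Fintype.ofFinite W
  have := Fintype.ofFinite N
  have := finite_irr (G := W)
  have := Fintype.ofFinite (IrrCharacter W)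
  have := finite_irr (G := N)
  have := Fintype.ofFinite (IrrCharacter N)
  -- the characters which do not vanish off `N`
  have h1 := Finset.card_mul_eq_card_mul (fun (χ : IrrCharacter W) (ψ : IrrCharacter N) =>
      ∀ n : N, (χ : W → ℂ) n = (ψ : N → ℂ) n)
    (s := Finset.univ.filter fun χ : IrrCharacter W => D (charDegree (χ : W → ℂ)) ∧ ¬ Van N χ)
    (t := Finset.univ.filter fun ψ : IrrCharacter N => D (charDegree (ψ : N → ℂ)) ∧ Inv N ψ) (m := 1) (n := 2)
    (by
      intro χ hχ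
      obtain ⟨-, hχD, hχv⟩ := Finset.mem_filter.1 hχ
      obtain ⟨ψ, hψ, hr⟩ := restrict_of_not_van hN hχv
      rw [Finset.card_eq_one]
      refine ⟨ψ, ?_⟩
      ext ζ
      rw [Finset.mem_bipartiteAbove, Finset.mem_filter, Finset.mem_singleton]
      constructor
      · rintro ⟨-, h⟩
        apply Subtype.ext
        funext n
        rw [← h, hr]
      · rintro rfl
        refine ⟨⟨Finset.mem_univ _, ?_, hψ⟩, hr⟩
        rw [← charDegree_of (χ := (χ : W → ℂ)) (ψ := (ζ : N → ℂ)) (by simpa using hr 1)]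
        exact hχD)
    (by
      intro ψ hψ
      obtain ⟨-, hψD, hψi⟩ := Finset.mem_filter.1 hψ
      obtain ⟨χ, χ', hne, hv, hv', hall⟩ := card_ext hN hψi
      rw [Finset.card_eq_two]
      refine ⟨χ, χ', hne, ?_⟩
      ext η
      rw [Finset.mem_bipartiteBelow, Finset.mem_filter, Finset.mem_insert, Finset.mem_singleton]
      constructor
      · rintro ⟨-, h⟩
        exact (hall η).1 h
      · intro h
        have hr := (hall η).2 h
        refine ⟨⟨Finset.mem_univ _, ?_, ?_⟩, hr⟩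
        · rw [charDegree_of (χ := (η : W → ℂ)) (ψ := (ψ : N → ℂ)) (by simpa using hr 1)]
          exact hψD
        · rcases h with rfl | rfl
          · exact hv
          · exact hv')
  -- the characters which vanish off `N`
  have h2 := Finset.card_mul_eq_card_mul (fun (χ : IrrCharacter W) (ψ : IrrCharacter N) =>
      classInner (fun n : N => (χ : W → ℂ) n) (ψ : N → ℂ) ≠ 0)
    (s := Finset.univ.filter fun χ : IrrCharacter W => D (charDegree (χ : W → ℂ)) ∧ Van N χ)
    (t := Finset.univ.filter fun ψ : IrrCharacter N => D (charDegree (ψ : N → ℂ)) ∧ ¬ Inv N ψ) (m := 2) (n := 1)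
    (by
      intro χ hχ
      obtain ⟨-, hχD, hχv⟩ := Finset.mem_filter.1 hχ
      obtain ⟨η, η', hne, hi, hi', hd, hd', hall⟩ := two_of_van hN hχv
      rw [Finset.card_eq_two]
      refine ⟨η, η', hne, ?_⟩
      ext ζ
      rw [Finset.mem_bipartiteAbove, Finset.mem_filter, Finset.mem_insert, Finset.mem_singleton]
      constructor
      · rintro ⟨-, h⟩
        exact (hall ζ).1 h
      · intro h
        refine ⟨⟨Finset.mem_univ _, ?_, ?_⟩, (hall ζ).2 h⟩
        · rcases h with rfl | rfl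
          · rw [← hD, ← charDegree_two ζ.2 hd]
            exact hχD
          · rw [← hD, ← charDegree_two ζ.2 hd']
            exact hχD
        · rcases h with rfl | rfl
          · exact hi
          · exact hi')
    (by
      intro ψ hψ
      obtain ⟨-, hψD, hψi⟩ := Finset.mem_filter.1 hψ
      obtain ⟨χ, hv, hne, hall⟩ := moved hN hψi
      obtain ⟨η, η', -, -, -, hd, hd', hall'⟩ := two_of_van hN hv
      rw [Finset.card_eq_one]
      refine ⟨χ, ?_⟩
      ext φ
      rw [Finset.mem_bipartiteBelow, Finset.mem_filter, Finset.mem_singleton]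
      constructor
      · rintro ⟨⟨-, -, hφ⟩, h⟩
        exact hall φ hφ h
      · rintro rfl
        refine ⟨⟨Finset.mem_univ _, ?_, hv⟩, hne⟩
        rcases (hall' ψ).1 hne with rfl | rfl
        · rw [charDegree_two ψ.2 hd, hD]
          exact hψD
        · rw [charDegree_two ψ.2 hd', hD]
          exact hψD)
  rw [mul_one] at h1 h2
  have h3 : Nat.card {χ : IrrCharacter W // D (charDegree (χ : W → ℂ))} =
      (Finset.univ.filter fun χ : IrrCharacter W => D (charDegree (χ : W → ℂ)) ∧ ¬ Van N χ).card +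
      (Finset.univ.filter fun χ : IrrCharacter W => D (charDegree (χ : W → ℂ)) ∧ Van N χ).card := by
    rw [Nat.card_eq_fintype_card, Fintype.card_subtype, ← Finset.filter_filter, ← Finset.filter_filter, add_comm]
    exact (Finset.card_filter_add_card_filter_not (s := Finset.univ.filter fun χ : IrrCharacter W =>
      D (charDegree (χ : W → ℂ))) (fun χ => Van N χ)).symm
  rw [h3, Nat.card_eq_fintype_card, Fintype.card_subtype, Nat.card_eq_fintype_card, Fintype.card_subtype]
  omega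

end Cfsg.Agent.H41.McLTwo.Cliff
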