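import Cfsg.Agent.SmallSimple.SelfCentPrime

/-!
# The `p`-regular classes of a group with a normal subgroup of index 2 (helper41, task 5084)

`N` normal of index 2 in the finite group `W`, `p` an odd prime:
`2 * #(p-regular classes of W) = 4 * #(invariant p-regular classes of N) + #(noninvariant p-regular classes of N)`.
Proof: counting of commuting pairs.
-/

set_option autoImplicit false

namespace Cfsg.Agent.H41.McLTwo

open Cfsg

universe u

section Pairs

variable {G : Type u} [Group G]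

theorem out_iff {D : G → Prop} (hD : ∀ x y, IsConj x y → (D x ↔ D y)) (x : G) :
    D (Quotient.out (ConjClasses.mk x)) ↔ D x := by
  refine hD _ _ ?_
  have h : ConjClasses.mk (Quotient.out (ConjClasses.mk x)) = ConjClasses.mk x := Quotient.out_eq (ConjClasses.mk x)
  exact ConjClasses.mk_eq_mk_iff_isConj.1 h

/-- The number of classes with a property by commuting pairs. -/
theorem card_pairs [Finite G] {D : G → Prop} (hD : ∀ x y, IsConj x y → (D x ↔ D y)) :
    Nat.card {q : G × G // D q.1 ∧ Commute q.1 q.2} =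
      Nat.card {c : ConjClasses G // D (Quotient.out c)} * Nat.card G := by
  classical
  haveI := Fintype.ofFinite G
  haveI : Fintype (ConjClasses G) := Fintype.ofFinite _
  have h1 : Nat.card {q : G × G // D q.1 ∧ Commute q.1 q.2} =
      ∑ x : G, if D x then Nat.card (Subgroup.centralizer ({x} : Set G)) else 0 := by
    rw [Nat.card_eq_fintype_card, Fintype.card_subtype, Finset.card_filter, Fintype.sum_prod_type]
    refine Finset.sum_congr rfl fun x _ => ?_
    by_cases hx : D x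
    · rw [if_pos hx, Nat.card_eq_fintype_card, Fintype.card_subtype, Finset.card_filter]
      refine Finset.sum_congr rfl fun y _ => ?_
      have : (D x ∧ Commute x y) ↔ y ∈ Subgroup.centralizer ({x} : Set G) := by
        rw [Subgroup.mem_centralizer_singleton_iff]
        exact ⟨fun h => h.2.symm.eq, fun h => ⟨hx, (show Commute y x from h).symm⟩⟩
      simp only [this]
    · rw [if_neg hx]
      simp [hx]
  rw [h1, ← Finset.sum_fiberwise (s := Finset.univ) (g := fun x : G => ConjClasses.mk x)]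
  have h2 : ∀ c : ConjClasses G, (∑ x ∈ Finset.univ.filter (fun x : G => ConjClasses.mk x = c),
      if D x then Nat.card (Subgroup.centralizer ({x} : Set G)) else 0) =
      if D (Quotient.out c) then Nat.card G else 0 := by
    intro c
    obtain ⟨x, rfl⟩ := ConjClasses.mk_surjective c
    have hc : ∀ y ∈ Finset.univ.filter (fun y : G => ConjClasses.mk y = ConjClasses.mk x),
        (if D y then Nat.card (Subgroup.centralizer ({y} : Set G)) else 0) =
        (if D x then Nat.card (Subgroup.centralizer ({x} : Set G)) else 0) := by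
      intro y hy
      have hyx : IsConj y x := ConjClasses.mk_eq_mk_iff_isConj.1 (Finset.mem_filter.1 hy).2
      have e1 := SmallSimple.SelfCentPrime.card_carrier_mul_card_centralizer y
      have e2 := SmallSimple.SelfCentPrime.card_carrier_mul_card_centralizer x
      rw [ConjClasses.mk_eq_mk_iff_isConj.2 hyx] at e1
      have hpos : 0 < Nat.card (ConjClasses.mk x).carrier := by
        haveI : Nonempty (ConjClasses.mk x).carrier := ⟨⟨x, ConjClasses.mem_carrier_mk⟩⟩
        exact Nat.card_pos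
      have e3 : Nat.card (Subgroup.centralizer ({y} : Set G)) = Nat.card (Subgroup.centralizer ({x} : Set G)) :=
        Nat.eq_of_mul_eq_mul_left hpos (e1.trans e2.symm)
      rw [e3]
      simp only [hD y x hyx]
    rw [Finset.sum_congr rfl hc, Finset.sum_const, smul_eq_mul]
    have hcard : (Finset.univ.filter (fun y : G => ConjClasses.mk y = ConjClasses.mk x)).card =
        Nat.card (ConjClasses.mk x).carrier := by
      rw [← Fintype.card_subtype, ← Nat.card_eq_fintype_card]
      exact Nat.card_congr (Equiv.subtypeEquivRight fun y => by rw [ConjClasses.mem_carrier_iff_mk_eq])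
    rw [hcard]
    by_cases hx : D x
    · rw [if_pos hx, if_pos ((out_iff hD x).2 hx)]
      exact SmallSimple.SelfCentPrime.card_carrier_mul_card_centralizer x
    · rw [if_neg hx, if_neg (fun h => hx ((out_iff hD x).1 h)), mul_zero]
  have h3 : Nat.card {c : ConjClasses G // D (Quotient.out c)} =
      (Finset.univ.filter (fun c : ConjClasses G => D (Quotient.out c))).card := by
    rw [Nat.card_eq_fintype_card, Fintype.card_subtype]
  rw [Finset.sum_congr rfl fun c _ => h2 c, ← Finset.sum_filter, Finset.sum_const, smul_eq_mul, h3]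

end Pairs

/-- exponents of the `p`-part and the `p'`-part -/
theorem exists_exponents {A m : ℕ} (h : Nat.Coprime A m) : ∃ e f : ℕ, m ∣ e ∧ A ∣ f ∧ e ≡ 1 [MOD A] ∧ f ≡ 1 [MOD m] := by
  obtain ⟨e, he1, he2⟩ := Nat.chineseRemainder h 1 0
  obtain ⟨f, hf1, hf2⟩ := Nat.chineseRemainder h 0 1
  exact ⟨e, f, (Nat.modEq_zero_iff_dvd).1 he2, (Nat.modEq_zero_iff_dvd).1 hf1, he1, hf2⟩

section Two

variable {W : Type u} [Group W] {N : Subgroup W} [N.Normal]

/-- invariant classes -/
def InvC (N : Subgroup W) [N.Normal] (c : ConjClasses N) : Prop :=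
  ∀ g : W, ConjClasses.map ((MulAut.conjNormal g : MulAut N) : N ≃* N).toMonoidHom c = c

theorem conj_eq (g : W) (y : N) : (((MulAut.conjNormal g : MulAut N) y : N) : W) = g * y * g⁻¹ :=
  MulAut.conjNormal_apply g y

theorem invC_mk {y : N} : InvC N (ConjClasses.mk y) ↔ ∀ g : W, IsConj ((MulAut.conjNormal g : MulAut N) y) y := by
  refine forall_congr' fun g => ?_
  show ConjClasses.mk ((MulAut.conjNormal g : MulAut N) y) = ConjClasses.mk y ↔ _
  rw [ConjClasses.mk_eq_mk_iff_isConj]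

/-- the class of `y` is invariant iff an outer element commutes with `y` -/
theorem invC_iff (hN : N.index = 2) {y : N} :
    InvC N (ConjClasses.mk y) ↔ ∃ g : W, g ∉ N ∧ Commute g (y : W) := by
  rw [invC_mk]
  constructor
  · intro h
    have hne : N ≠ ⊤ := by
      rintro rfl
      rw [Subgroup.index_top] at hN
      omega
    obtain ⟨g, hg⟩ := SetLike.exists_not_mem_of_ne_top N hne rfl
    obtain ⟨s, hs⟩ := isConj_iff.1 (h g)
    refine ⟨s * g, fun hm => hg ((Subgroup.mul_mem_cancel_left N s.2).1 hm), ?_⟩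
    have h1 := congrArg (Subtype.val : N → W) hs
    rw [Subgroup.coe_mul, Subgroup.coe_mul, Subgroup.coe_inv, conj_eq] at h1
    show (s : W) * g * y = y * (s * g)
    calc (s : W) * g * y = ((s : W) * (g * y * g⁻¹) * (s : W)⁻¹) * (s * g) := by group
      _ = y * (s * g) := by rw [h1]
  · rintro ⟨x, hx, hc⟩ g
    have hc' : x * y * x⁻¹ = y := by rw [hc.eq, mul_inv_cancel_right]
    by_cases hg : g ∈ N
    · refine isConj_iff.2 ⟨⟨g⁻¹, inv_mem hg⟩, Subtype.ext ?_⟩
      rw [Subgroup.coe_mul, Subgroup.coe_mul, Subgroup.coe_inv, conj_eq]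
      show g⁻¹ * (g * y * g⁻¹) * g⁻¹⁻¹ = y
      group
    · have hs : x * g⁻¹ ∈ N := by
        rw [Subgroup.mul_mem_iff_of_index_two hN]
        exact ⟨fun h => absurd h hx, fun h => absurd (inv_mem_iff.1 h) hg⟩
      refine isConj_iff.2 ⟨⟨x * g⁻¹, hs⟩, Subtype.ext ?_⟩
      rw [Subgroup.coe_mul, Subgroup.coe_mul, Subgroup.coe_inv, conj_eq]
      show (x * g⁻¹) * (g * y * g⁻¹) * (x * g⁻¹)⁻¹ = y
      calc (x * g⁻¹) * (g * y * g⁻¹) * (x * g⁻¹)⁻¹ = x * y * x⁻¹ := by group
        _ = y := hc'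

/-- the condition of a commuting pair -/
def CP (W : Type u) [Group W] (N : Subgroup W) (m : ℕ) (a b : Prop) : Type u :=
  {q : W × W // (q.1 ^ m = 1 ∧ Commute q.1 q.2) ∧ (q.1 ∈ N ↔ a) ∧ (q.2 ∈ N ↔ b)}

/-- both in `N` -/
theorem card_tt [Finite W] (m : ℕ) :
    Nat.card (CP W N m True True) = Nat.card {c : ConjClasses N // (Quotient.out c) ^ m = 1} * Nat.card N := by
  rw [← card_pairs (G := N) (D := fun x => x ^ m = 1)]
  · refine Nat.card_congr
      { toFun := fun q => ⟨(⟨q.1.1, q.2.2.1.2 trivial⟩, ⟨q.1.2, q.2.2.2.2 trivial⟩), Subtype.ext q.2.1.1, Subtype.ext q.2.1.2⟩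
        invFun := fun q => ⟨((q.1.1 : W), (q.1.2 : W)), ⟨⟨congrArg Subtype.val q.2.1, congrArg Subtype.val q.2.2.eq⟩,
          ⟨fun _ => trivial, fun _ => q.1.1.2⟩, ⟨fun _ => trivial, fun _ => q.1.2.2⟩⟩⟩
        left_inv := fun q => rfl
        right_inv := fun q => rfl }
  · intro x y h
    obtain ⟨g, rfl⟩ := isConj_iff.1 h
    rw [conj_pow, mul_inv_eq_one, mul_eq_left]

/-- the first in `N`, the second outside -/
theorem card_tf [Finite W] (hN : N.index = 2) (m : ℕ) :
    Nat.card (CP W N m True False) =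
      Nat.card {c : ConjClasses N // (Quotient.out c) ^ m = 1 ∧ InvC N c} * Nat.card N := by
  classical
  have hD : ∀ x y : N, IsConj x y → ((x ^ m = 1 ∧ InvC N (ConjClasses.mk x)) ↔ (y ^ m = 1 ∧ InvC N (ConjClasses.mk y))) := by
    intro x y h
    rw [ConjClasses.mk_eq_mk_iff_isConj.2 h]
    obtain ⟨g, rfl⟩ := isConj_iff.1 h
    rw [conj_pow, mul_inv_eq_one, mul_eq_left]
  have h1 := card_pairs (G := N) hD
  have h2 : ∀ c : ConjClasses N, ConjClasses.mk (Quotient.out c) = c := fun c => Quotient.out_eq c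
  simp only [h2] at h1
  rw [← h1]
  have hex : ∀ y : N, ∃ g : W, InvC N (ConjClasses.mk y) → g ∉ N ∧ Commute g (y : W) := by
    intro y
    by_cases h : InvC N (ConjClasses.mk y)
    · obtain ⟨g, hg⟩ := (invC_iff hN).1 h
      exact ⟨g, fun _ => hg⟩
    · exact ⟨1, fun h' => absurd h' h⟩
  choose g hg using hex
  symm
  refine Nat.card_congr (Equiv.ofBijective (fun q => ⟨((q.1.1 : W), (q.1.2 : W) * g q.1.1), ?_⟩) ⟨?_, ?_⟩)
  · have h3 := hg q.1.1 q.2.1.2
    have h4 : Commute (q.1.1 : W) (q.1.2 : W) := congrArg Subtype.val q.2.2.eq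
    refine ⟨⟨congrArg Subtype.val q.2.1.1, h4.mul_right h3.2.symm⟩, ⟨fun _ => trivial, fun _ => q.1.1.2⟩, ?_⟩
    exact ⟨fun h => h3.1 ((Subgroup.mul_mem_cancel_left N q.1.2.2).1 h), False.elim⟩
  · intro q r hqr
    have h3 := congrArg Subtype.val hqr
    have h4 : q.1.1 = r.1.1 := Subtype.ext (congrArg Prod.fst h3)
    have h5 := congrArg Prod.snd h3
    simp only [h4] at h5
    exact Subtype.ext (Prod.ext h4 (Subtype.ext (mul_right_cancel h5)))
  · rintro ⟨⟨y, x⟩, ⟨h3, h4⟩, h5, h6⟩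
    have hy : y ∈ N := h5.2 trivial
    have hx : x ∉ N := h6.1
    have hI : InvC N (ConjClasses.mk (⟨y, hy⟩ : N)) := (invC_iff hN).2 ⟨x, hx, h4.symm⟩
    have h7 := hg ⟨y, hy⟩ hI
    have h8 : x * (g ⟨y, hy⟩)⁻¹ ∈ N := by
      rw [Subgroup.mul_mem_iff_of_index_two hN]
      exact ⟨fun h => absurd h hx, fun h => absurd (inv_mem_iff.1 h) h7.1⟩
    refine ⟨⟨(⟨y, hy⟩, ⟨x * (g ⟨y, hy⟩)⁻¹, h8⟩), ⟨⟨Subtype.ext h3, hI⟩, Subtype.ext ?_⟩⟩, ?_⟩
    · exact (h4.mul_right h7.2.symm.inv_right).eq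
    · refine Subtype.ext (Prod.ext rfl ?_)
      show x * (g ⟨y, hy⟩)⁻¹ * g ⟨y, hy⟩ = x
      rw [inv_mul_cancel_right]

/-- both outside -/
theorem card_ff (hN : N.index = 2) (m : ℕ) : Nat.card (CP W N m False False) = Nat.card (CP W N m False True) := by
  refine Nat.card_congr
    { toFun := fun q => ⟨(q.1.1, q.1.1 * q.1.2), ⟨⟨q.2.1.1, (Commute.refl _).mul_right q.2.1.2⟩, q.2.2.1, ?_⟩⟩
      invFun := fun q => ⟨(q.1.1, q.1.1⁻¹ * q.1.2), ⟨⟨q.2.1.1, (Commute.refl _).inv_right.mul_right q.2.1.2⟩, q.2.2.1, ?_⟩⟩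
      left_inv := fun q => Subtype.ext (Prod.ext rfl (inv_mul_cancel_left _ _))
      right_inv := fun q => Subtype.ext (Prod.ext rfl (mul_inv_cancel_left _ _)) }
  · rw [Subgroup.mul_mem_iff_of_index_two hN, q.2.2.1, q.2.2.2]
    tauto
  · rw [Subgroup.mul_mem_iff_of_index_two hN, inv_mem_iff, q.2.2.1, q.2.2.2]
    tauto

/-- exchange -/
theorem card_ft [Finite W] (hN : N.index = 2) {A m : ℕ} (hA : Odd A) (hAm : Nat.Coprime A m) (hW : Nat.card W = A * m) :
    Nat.card (CP W N m False True) = Nat.card (CP W N m True False) := by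
  obtain ⟨e, f, he, hf, he1, hf1⟩ := exists_exponents hAm
  have hpow : ∀ x : W, x ^ (A * m) = 1 := fun x => by rw [← hW]; exact pow_card_eq_one'
  have hmod : ∀ (x : W) {a b : ℕ}, a ≡ b [MOD A * m] → x ^ a = x ^ b := by
    intro x a b h
    exact pow_eq_pow_iff_modEq.2 (h.of_dvd (orderOf_dvd_of_pow_eq_one (hpow x)))
  have hmod' : ∀ {x : W} {a b : ℕ}, x ^ m = 1 → a ≡ b [MOD m] → x ^ a = x ^ b := by
    intro x a b hx h
    exact pow_eq_pow_iff_modEq.2 (h.of_dvd (orderOf_dvd_of_pow_eq_one hx))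
  have hef : e * f ≡ 0 [MOD A * m] := (Nat.modEq_zero_iff_dvd).2 (by rw [mul_comm A m]; exact mul_dvd_mul he hf)
  have hsum : e + f ≡ 1 [MOD A * m] := by
    rw [← Nat.modEq_and_modEq_iff_modEq_mul hAm]
    constructor
    · have : e + f ≡ 1 + 0 [MOD A] := he1.add ((Nat.modEq_zero_iff_dvd).2 hf)
      simpa using this
    · have : e + f ≡ 0 + 1 [MOD m] := Nat.ModEq.add ((Nat.modEq_zero_iff_dvd).2 he) hf1
      simpa using this
  have hee : e * e ≡ e [MOD A * m] := by
    rw [← Nat.modEq_and_modEq_iff_modEq_mul hAm]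
    constructor
    · simpa using he1.mul_right e
    · exact ((Nat.modEq_zero_iff_dvd).2 (he.mul_right e)).trans ((Nat.modEq_zero_iff_dvd).2 he).symm
  have h2m : 2 ∣ m := by
    have h1 : 2 ∣ A * m := by rw [← hW, ← hN]; exact N.index_dvd_card
    exact (Nat.Coprime.dvd_of_dvd_mul_left (Nat.coprime_two_left.2 hA) h1)
  have heN : ∀ x : W, x ^ e ∈ N := by
    intro x
    obtain ⟨k, hk⟩ := h2m.trans he
    rw [hk, pow_mul]
    exact pow_mem (Subgroup.sq_mem_of_index_two hN x) k
  have key1 : ∀ x y : W, x ^ m = 1 → Commute x y → (x * y ^ e) ^ f = x := by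
    intro x y hx hc
    rw [(hc.pow_right e).mul_pow, ← pow_mul, hmod y hef, pow_zero, mul_one, hmod' hx hf1, pow_one]
  have key2 : ∀ x y : W, x ^ m = 1 → Commute x y → y ^ f * (x * y ^ e) ^ e = y := by
    intro x y hx hc
    rw [(hc.pow_right e).mul_pow, ← pow_mul, hmod y hee, hmod' hx ((Nat.modEq_zero_iff_dvd).2 he), pow_zero, one_mul,
      ← pow_add, add_comm f e, hmod y hsum, pow_one]
  have key3 : ∀ y : W, (y ^ f) ^ m = 1 := by
    intro y
    obtain ⟨k, rfl⟩ := hf
    rw [← pow_mul, show A * k * m = (A * m) * k by ring, pow_mul, hpow, one_pow]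
  have key4 : ∀ x : W, x ^ f ∈ N → x ∈ N := by
    intro x hx
    have h1 : x ^ e * x ^ f = x := by rw [← pow_add, hmod x hsum, pow_one]
    rw [← h1]
    exact mul_mem (heN x) hx
  refine Nat.card_congr
    { toFun := fun q => ⟨(q.1.2 ^ f, q.1.1 * q.1.2 ^ e), ⟨⟨key3 _, ?_⟩, ?_, ?_⟩⟩
      invFun := fun q => ⟨(q.1.2 ^ f, q.1.1 * q.1.2 ^ e), ⟨⟨key3 _, ?_⟩, ?_, ?_⟩⟩
      left_inv := fun q => Subtype.ext (Prod.ext (key1 _ _ q.2.1.1 q.2.1.2) (key2 _ _ q.2.1.1 q.2.1.2))
      right_inv := fun q => Subtype.ext (Prod.ext (key1 _ _ q.2.1.1 q.2.1.2) (key2 _ _ q.2.1.1 q.2.1.2)) }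
  · exact ((q.2.1.2.symm.pow_left f).mul_right ((Commute.refl _).pow_pow f e))
  · exact ⟨fun _ => trivial, fun _ => pow_mem (q.2.2.2.2 trivial) f⟩
  · exact ⟨fun h => q.2.2.1.1 ((Subgroup.mul_mem_cancel_right N (heN _)).1 h), False.elim⟩
  · exact ((q.2.1.2.symm.pow_left f).mul_right ((Commute.refl _).pow_pow f e))
  · exact ⟨fun h => q.2.2.2.1 (key4 _ h), False.elim⟩
  · exact ⟨fun _ => trivial, fun _ => mul_mem (q.2.2.1.2 trivial) (heN _)⟩

theorem card_split {α : Type u} [Finite α] (P Q : α → Prop) :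
    Nat.card {x // P x} = Nat.card {x // P x ∧ Q x} + Nat.card {x // P x ∧ ¬ Q x} := by
  classical
  rw [← Nat.card_sum]
  refine Nat.card_congr
    { toFun := fun x => if h : Q x.1 then Sum.inl ⟨x.1, x.2, h⟩ else Sum.inr ⟨x.1, x.2, h⟩
      invFun := fun x => Sum.elim (fun y => ⟨y.1, y.2.1⟩) (fun y => ⟨y.1, y.2.1⟩) x
      left_inv := fun x => ?_
      right_inv := fun x => ?_ }
  · by_cases h : Q x.1
    · simp [h]
    · simp [h]
  · rcases x with x | x
    · simp [x.2.2]
    · simp [x.2.2]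

/-- **The `p`-regular classes of a group with a normal subgroup of index 2**: `|W| = A m`, `A` odd and prime to `m`; the
classes of the elements `x` with `x ^ m = 1`. -/
theorem pow_two' [Finite W] (hN : N.index = 2) {A m : ℕ} (hA : Odd A) (hAm : Nat.Coprime A m) (hW : Nat.card W = A * m) :
    2 * Nat.card {c : ConjClasses W // (Quotient.out c) ^ m = 1} =
      4 * Nat.card {c : ConjClasses N // (Quotient.out c) ^ m = 1 ∧ InvC N c} +
        Nat.card {c : ConjClasses N // (Quotient.out c) ^ m = 1 ∧ ¬ InvC N c} := by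
  have h0 := card_pairs (G := W) (D := fun x => x ^ m = 1) (by
    intro x y h
    obtain ⟨g, rfl⟩ := isConj_iff.1 h
    rw [conj_pow, mul_inv_eq_one, mul_eq_left])
  have e1 := card_split (fun q : W × W => q.1 ^ m = 1 ∧ Commute q.1 q.2) (fun q => q.1 ∈ N)
  have e2 := card_split (fun q : W × W => (q.1 ^ m = 1 ∧ Commute q.1 q.2) ∧ q.1 ∈ N) (fun q => q.2 ∈ N)
  have e3 := card_split (fun q : W × W => (q.1 ^ m = 1 ∧ Commute q.1 q.2) ∧ ¬ q.1 ∈ N) (fun q => q.2 ∈ N)
  have c1 : Nat.card {q : W × W // ((q.1 ^ m = 1 ∧ Commute q.1 q.2) ∧ q.1 ∈ N) ∧ q.2 ∈ N} = Nat.card (CP W N m True True) :=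
    Nat.card_congr (Equiv.subtypeEquivRight fun q => by rw [iff_true, iff_true, and_assoc])
  have c2 : Nat.card {q : W × W // ((q.1 ^ m = 1 ∧ Commute q.1 q.2) ∧ q.1 ∈ N) ∧ ¬ q.2 ∈ N} =
      Nat.card (CP W N m True False) :=
    Nat.card_congr (Equiv.subtypeEquivRight fun q => by rw [iff_true, iff_false, and_assoc])
  have c3 : Nat.card {q : W × W // ((q.1 ^ m = 1 ∧ Commute q.1 q.2) ∧ ¬ q.1 ∈ N) ∧ q.2 ∈ N} =
      Nat.card (CP W N m False True) :=
    Nat.card_congr (Equiv.subtypeEquivRight fun q => by rw [iff_true, iff_false, and_assoc])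
  have c4 : Nat.card {q : W × W // ((q.1 ^ m = 1 ∧ Commute q.1 q.2) ∧ ¬ q.1 ∈ N) ∧ ¬ q.2 ∈ N} =
      Nat.card (CP W N m False False) :=
    Nat.card_congr (Equiv.subtypeEquivRight fun q => by rw [iff_false, iff_false, and_assoc])
  have e4 := card_split (fun c : ConjClasses N => (Quotient.out c) ^ m = 1) (fun c => InvC N c)
  have hWN : Nat.card W = 2 * Nat.card N := by rw [← hN, N.index_mul_card]
  have hpos : 0 < Nat.card N := Nat.card_pos
  have d1 := card_tt (N := N) m
  have d2 := card_tf hN m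
  have d3 := card_ft hN hA hAm hW
  have d4 := card_ff (N := N) hN m
  refine Nat.eq_of_mul_eq_mul_right hpos ?_
  rw [c1, c2, d1, d2] at e2
  rw [c3, c4, d4, d3, d2] at e3
  rw [h0, e2, e3, e4, hWN] at e1
  linarith

end Two

section Reg

variable {W : Type u} [Group W] {N : Subgroup W} [N.Normal]

theorem reg_iff {G : Type u} [Group G] {p a m : ℕ} (hp : p.Prime) (hm : ¬ p ∣ m) {x : G} (hx : x ^ (p ^ a * m) = 1) :
    ¬ p ∣ orderOf x ↔ x ^ m = 1 := by
  constructor
  · intro h
    refine orderOf_dvd_iff_pow_eq_one.1 (Nat.Coprime.dvd_of_dvd_mul_left ?_ (orderOf_dvd_of_pow_eq_one hx))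
    exact Nat.Coprime.pow_right a (((Nat.Prime.coprime_iff_not_dvd hp).2 h).symm)
  · intro h hd
    exact hm (hd.trans (orderOf_dvd_of_pow_eq_one h))

/-- **The `p`-regular classes of a group with a normal subgroup of index 2**, `p` odd. -/
theorem reg_two [Finite W] (hN : N.index = 2) {p : ℕ} (hp : p.Prime) (hp2 : p ≠ 2) :
    2 * Nat.card {c : ConjClasses W // ¬ p ∣ orderOf (Quotient.out c)} =
      4 * Nat.card {c : ConjClasses N // ¬ p ∣ orderOf (Quotient.out c) ∧ InvC N c} +
        Nat.card {c : ConjClasses N // ¬ p ∣ orderOf (Quotient.out c) ∧ ¬ InvC N c} := by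
  have hpos : Nat.card W ≠ 0 := Nat.card_pos.ne'
  have hW : Nat.card W = p ^ (Nat.card W).factorization p * (Nat.card W / p ^ (Nat.card W).factorization p) :=
    (Nat.ordProj_mul_ordCompl_eq_self _ p).symm
  have hm : ¬ p ∣ Nat.card W / p ^ (Nat.card W).factorization p := Nat.not_dvd_ordCompl hp hpos
  have hx : ∀ x : W, x ^ (p ^ (Nat.card W).factorization p * (Nat.card W / p ^ (Nat.card W).factorization p)) = 1 := by
    intro x
    rw [← hW]
    exact pow_card_eq_one'
  have hy : ∀ x : N, x ^ (p ^ (Nat.card W).factorization p * (Nat.card W / p ^ (Nat.card W).factorization p)) = 1 :=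
    fun x => Subtype.ext (by rw [Subgroup.coe_pow]; exact hx _)
  have h := pow_two' (N := N) hN (A := p ^ (Nat.card W).factorization p)
    (m := Nat.card W / p ^ (Nat.card W).factorization p) ((hp.odd_of_ne_two hp2).pow)
    (Nat.Coprime.pow_left _ ((Nat.Prime.coprime_iff_not_dvd hp).2 hm)) hW
  simp only [reg_iff hp hm (hx _), reg_iff hp hm (hy _)]
  exact h

/-- **The classes of a group with a normal subgroup of index 2**. -/
theorem all_two [Finite W] (hN : N.index = 2) :
    2 * Nat.card (ConjClasses W) =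
      4 * Nat.card {c : ConjClasses N // InvC N c} + Nat.card {c : ConjClasses N // ¬ InvC N c} := by
  have h := pow_two' (N := N) hN (A := 1) (m := Nat.card W) odd_one (Nat.coprime_one_left _) (one_mul _).symm
  have hx : ∀ x : W, x ^ Nat.card W = 1 := fun x => pow_card_eq_one'
  have hy : ∀ x : N, x ^ Nat.card W = 1 := fun x => Subtype.ext (by rw [Subgroup.coe_pow]; exact hx _)
  simp only [hx, hy, true_and] at h
  rw [← h]
  congr 1
  exact (Nat.card_congr (Equiv.subtypeUnivEquiv fun _ => trivial)).symm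

end Reg

end Cfsg.Agent.H41.McLTwo
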