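import Cfsg.Agent.H41.McLTwo.Chars
import Cfsg.Agent.H41.McLTwo.Cliff
import Cfsg.Agent.H41.McLTwo.Classes
import Cfsg.Agent.H41.McLTwo.RegTwo
import Cfsg.Agent.H34.TI.Defs
import Cfsg.Agent.H904.McLCent

/-!
# `McL.2`, `p = 5` (helper41, task 5084; S4819, S4820)

`H` with a normal subgroup `S ≅ McL` of index 2 and trivial centralizer, from the class list and the character table of
`McL`: 26 characters of degree prime to 125, 7 of 5-defect zero, 25 classes of 5-regular elements.
-/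

set_option autoImplicit false

namespace Cfsg.Agent.H41.McLTwo

open Cfsg Cfsg.Agent.Characters.Core Cfsg.Agent.H447.CTab
open scoped Pointwise

universe u

/-- Class list and characters of `McL`. -/
structure McLData (T : Type u) [Group T] [Finite T] where
  r : ℕ
  C : ClassTab T 24
  rc : Fin 24 → Fin r
  Θ : Table C rc 12 6
  o : Fin 24 → ℕ
  inv : Fin 24 → Fin 24
  order : ∀ i, orderOf (C.x i) = o i
  hinv : ∀ i, IsConj (C.x (inv i)) (C.x i)⁻¹
  dR : Fin 12 → ℕ
  dP : Fin 6 → ℕ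
  hdR : ∀ a, (Θ.R a (rc Θ.i0)).toNat = dR a
  hdP : ∀ b, (Θ.P b (rc Θ.i0)).toNat / 2 = dP b
  h1 : ∀ i j, Sw (o i) = true → o i = o j → j = i ∨ j = inv i
  h1' : ∀ i, Sw (o i) = true → inv i ≠ i
  h11 : ∀ i, 11 ∣ o i → o i = 11
  h2 : ∀ i j, o i = 11 → o j = 11 → j = i ∨ j = inv i
  h3 : ∀ i j, Sw (o i) = false → o i ≠ 11 → o i = o j → C.c i = C.c j → i = j
  n14 : (Finset.univ.filter fun i => Sw (o i) = false).card = 14
  nreg : (Finset.univ.filter fun i => (!(5 ∣ o i : Bool) && !Sw (o i)) = true).card = 11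
  nreg' : (Finset.univ.filter fun i => (!(5 ∣ o i : Bool) && Sw (o i)) = true).card = 6
  nP : (Finset.univ.filter fun b => (!(11 ∣ dP b : Bool)) = true).card = 1
  dz1 : (Finset.univ.filter fun a => (125 ∣ dR a : Bool) = true).card = 3
  dz2 : (Finset.univ.filter fun b => ((125 ∣ dP b : Bool) && (11 ∣ dP b : Bool)) = true).card = 1
  dz3 : (Finset.univ.filter fun b => ((125 ∣ dP b : Bool) && !(11 ∣ dP b : Bool)) = true).card = 0
  n625R : ∀ a, ¬ 625 ∣ dR a
  n625P : ∀ a, ¬ 625 ∣ dP a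

section Lev

variable {H : Type u} [Group H] {S : Subgroup H} [S.Normal]

theorem not_inner' (hC : Subgroup.centralizer (S : Set H) = ⊥) {g : H} (hg : g ∉ S) :
    ¬ ∃ s, (MulAut.conjNormal g : MulAut S) = MulAut.conj s := by
  rintro ⟨s, hs⟩
  have h1 : (s : H)⁻¹ * g ∈ Subgroup.centralizer (S : Set H) := by
    rw [Subgroup.mem_centralizer_iff]
    intro x hx
    have h2 := congrArg (Subtype.val : S → H) (DFunLike.congr_fun hs ⟨x, hx⟩)
    rw [conj_eq, MulAut.conj_apply] at h2
    have h3 : g * x * g⁻¹ = s * x * (s : H)⁻¹ := h2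
    calc x * ((s : H)⁻¹ * g) = (s : H)⁻¹ * (s * x * (s : H)⁻¹) * g := by group
      _ = (s : H)⁻¹ * g * x := by rw [← h3]; group
  rw [hC, Subgroup.mem_bot, inv_mul_eq_one] at h1
  exact hg (h1 ▸ s.2)

theorem exists_outer (hN : S.index = 2) : ∃ g : H, g ∉ S := by
  have hne : S ≠ ⊤ := by
    rintro rfl
    rw [Subgroup.index_top] at hN
    omega
  obtain ⟨g, hg⟩ := SetLike.exists_not_mem_of_ne_top S hne rfl
  exact ⟨g, hg⟩

/-- every element is inner times `1` or `g` -/
theorem inner_or (hN : S.index = 2) {g : H} (hg : g ∉ S) (x : H) : (∃ s : S, x = s) ∨ ∃ s : S, x = s * g := by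
  by_cases hx : x ∈ S
  · exact Or.inl ⟨⟨x, hx⟩, rfl⟩
  · refine Or.inr ⟨⟨x * g⁻¹, ?_⟩, by simp⟩
    rw [Subgroup.mul_mem_iff_of_index_two hN]
    exact ⟨fun h => absurd h hx, fun h => absurd (inv_mem_iff.1 h) hg⟩

theorem inv_iff' (hN : S.index = 2) {g : H} (hg : g ∉ S) {ψ : IrrCharacter S} :
    Cliff.Inv S ψ ↔ (ψ : S → ℂ) ∘ (MulAut.conjNormal g : MulAut S) = ψ := by
  refine ⟨fun h => h g, fun h x => ?_⟩
  funext y
  show (ψ : S → ℂ) ((MulAut.conjNormal x : MulAut S) y) = (ψ : S → ℂ) y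
  rcases inner_or hN hg x with ⟨s, rfl⟩ | ⟨s, rfl⟩
  · refine cf_isConj (isIrr_isClassFunction ψ.2) (isConj_iff.2 ⟨s⁻¹, Subtype.ext ?_⟩)
    rw [Subgroup.coe_mul, Subgroup.coe_mul, conj_eq, Subgroup.coe_inv]
    group
  · refine Eq.trans ?_ (congrFun h y)
    refine cf_isConj (isIrr_isClassFunction ψ.2) (isConj_iff.2 ⟨s⁻¹, Subtype.ext ?_⟩)
    rw [Subgroup.coe_mul, Subgroup.coe_mul, conj_eq, conj_eq, Subgroup.coe_inv]
    group

theorem invC_iff' (hN : S.index = 2) {g : H} (hg : g ∉ S) {y : S} :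
    InvC S (ConjClasses.mk y) ↔ IsConj ((MulAut.conjNormal g : MulAut S) y) y := by
  rw [invC_mk]
  refine ⟨fun h => h g, fun h x => ?_⟩
  rcases inner_or hN hg x with ⟨s, rfl⟩ | ⟨s, rfl⟩
  · refine isConj_iff.2 ⟨s⁻¹, Subtype.ext ?_⟩
    rw [Subgroup.coe_mul, Subgroup.coe_mul, conj_eq, Subgroup.coe_inv]
    group
  · refine IsConj.trans ?_ h
    refine isConj_iff.2 ⟨s⁻¹, Subtype.ext ?_⟩
    rw [Subgroup.coe_mul, Subgroup.coe_mul, conj_eq, conj_eq, Subgroup.coe_inv]
    group

end Lev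

namespace McLData

variable {T : Type u} [Group T] [Finite T] (M : McLData T)

include M

/-- the class list -/
def cls : Cls T 24 where
  x := M.C.x
  o := M.o
  c := M.C.c
  inv := M.inv
  cover := M.C.cover
  inj := M.C.inj
  order := M.order
  card := M.C.card
  hinv := M.hinv

theorem real {t : T} (h1 : Sw (orderOf t) = false) (h2 : orderOf t ≠ 11) : IsConj t t⁻¹ := by
  obtain ⟨i, hi⟩ := M.C.cover t
  obtain ⟨j, hj⟩ := M.C.cover t⁻¹
  have e1 : M.o i = orderOf t := M.cls.o_eq hi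
  have e2 : M.o j = orderOf t := (M.cls.o_eq hj).trans (orderOf_inv t)
  have e3 : M.C.c i = M.C.c j := by
    have h3 : M.C.c i = _ := M.cls.c_eq hi
    have h4 : M.C.c j = _ := M.cls.c_eq hj
    rw [h3, h4]
    have h5 : Subgroup.centralizer ({t⁻¹} : Set T) = Subgroup.centralizer ({t} : Set T) := by
      ext y
      rw [Subgroup.mem_centralizer_singleton_iff, Subgroup.mem_centralizer_singleton_iff]
      exact ⟨fun h => (Commute.inv_right_iff.1 (show Commute y t⁻¹ from h)).eq,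
        fun h => (Commute.inv_right (show Commute y t from h)).eq⟩
    rw [h5]
  have e4 := M.h3 i j (by rw [e1]; exact h1) (by rw [e1]; exact h2) (e1.trans e2.symm) e3
  subst e4
  exact hi.symm.trans hj

variable {α : MulAut T}

theorem hA (hT : Spor.IsoMcL T) (hα : ¬ ∃ s, α = MulAut.conj s) (t : T) (ht : ¬ 11 ∣ orderOf t) :
    IsConj (α t) t⁻¹ := by
  by_cases hs : Sw (orderOf t) = true
  · exact M.cls.swap hT M.h1 hα hs
  · have hs' : Sw (orderOf t) = false := by simpa using hs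
    exact (M.cls.stay hT M.h2 M.h3 hα hs').trans (M.real hs' fun h => ht (by rw [h]))

theorem hB (hT : Spor.IsoMcL T) (hα : ¬ ∃ s, α = MulAut.conj s) (t : T) : IsConj (α t) t ∨ IsConj (α t) t⁻¹ := by
  by_cases hs : Sw (orderOf t) = true
  · exact Or.inr (M.cls.swap hT M.h1 hα hs)
  · have hs' : Sw (orderOf t) = false := by simpa using hs
    exact Or.inl (M.cls.stay hT M.h2 M.h3 hα hs')

theorem stay_iff (hT : Spor.IsoMcL T) (hα : ¬ ∃ s, α = MulAut.conj s) (i : Fin 24) :
    IsConj (α (M.C.x i)) (M.C.x i) ↔ Sw (M.o i) = false := by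
  constructor
  · intro h
    by_contra hs
    have hs' : Sw (M.o i) = true := by simpa using hs
    have h5 : IsConj (α (M.C.x i)) (M.C.x i)⁻¹ := M.cls.swap hT M.h1 hα (by rw [M.order]; exact hs')
    exact M.h1' i hs' (M.C.inj _ _ ((M.hinv i).trans (h5.symm.trans h)))
  · intro h
    exact M.cls.stay hT M.h2 M.h3 hα (by rw [M.order]; exact h)

/-- counting of classes -/
theorem card_classes_eq (P : ConjClasses T → Prop) (p : Fin 24 → Bool)
    (h : ∀ i, P (ConjClasses.mk (M.C.x i)) ↔ p i = true) :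
    Nat.card {c : ConjClasses T // P c} = (Finset.univ.filter fun i => p i = true).card := by
  classical
  rw [← Fintype.card_subtype, ← Nat.card_eq_fintype_card]
  symm
  have e : Fin 24 ≃ ConjClasses T := Equiv.ofBijective (fun i => ConjClasses.mk (M.C.x i))
    ⟨fun i j hij => M.C.inj _ _ (ConjClasses.mk_eq_mk_iff_isConj.1 hij), fun c => by
      obtain ⟨g, rfl⟩ := ConjClasses.mk_surjective c
      obtain ⟨i, hi⟩ := M.C.cover g
      exact ⟨i, ConjClasses.mk_eq_mk_iff_isConj.2 hi⟩⟩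
  refine Nat.card_congr (Equiv.ofBijective (fun i => (⟨ConjClasses.mk (M.C.x i.1), (h i.1).2 i.2⟩ :
    {c : ConjClasses T // P c})) ⟨?_, ?_⟩)
  · intro i j hij
    exact Subtype.ext (M.C.inj _ _ (ConjClasses.mk_eq_mk_iff_isConj.1 (congrArg Subtype.val hij)))
  · rintro ⟨c, hc⟩
    obtain ⟨g, rfl⟩ := ConjClasses.mk_surjective c
    obtain ⟨i, hi⟩ := M.C.cover g
    have h1 := ConjClasses.mk_eq_mk_iff_isConj.2 hi
    exact ⟨⟨i, (h i).1 (by rw [h1]; exact hc)⟩, Subtype.ext h1⟩

end McLData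

section Count

variable {H : Type u} [Group H] [Finite H] {S : Subgroup H} [S.Normal]

theorem coe_decide {n m : ℕ} : (n ∣ m : Bool) = true ↔ n ∣ m := decide_eq_true_iff

/-- the factorization condition -/
theorem fac_iff {n : ℕ} (h : ¬ 625 ∣ n) : n.factorization 5 = 3 ↔ 125 ∣ n := by
  have hn : n ≠ 0 := by
    rintro rfl
    exact h (dvd_zero _)
  have h3 := (Nat.prime_five).pow_dvd_iff_le_factorization (k := 3) hn
  have h4 := (Nat.prime_five).pow_dvd_iff_le_factorization (k := 4) hn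
  norm_num at h3 h4
  rw [h3]
  constructor
  · omega
  · intro h5
    have : ¬ 4 ≤ n.factorization 5 := fun h6 => h (h4.2 h6)
    omega

theorem fac_two (n : ℕ) : (2 * n).factorization 5 = n.factorization 5 := by
  rcases eq_or_ne n 0 with rfl | hn
  · rfl
  · rw [Nat.factorization_mul two_ne_zero hn, Finsupp.add_apply, Nat.factorization_eq_zero_of_not_dvd (n := 2) (by norm_num),
      zero_add]

theorem fac11 (hT : Spor.IsoMcL S) : (Nat.card S).factorization 11 = 1 := by
  have h := H904.McLCent.card_L hT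
  have hn : Nat.card S ≠ 0 := Nat.card_pos.ne'
  have h1 := (show Nat.Prime 11 by norm_num).pow_dvd_iff_le_factorization (k := 1) hn
  have h2 := (show Nat.Prime 11 by norm_num).pow_dvd_iff_le_factorization (k := 2) hn
  rw [h] at h1 h2 ⊢
  norm_num at h1 h2
  omega

omit [S.Normal] in
theorem fac5 (hN : S.index = 2) (hT : Spor.IsoMcL S) : (Nat.card H).factorization 5 = 3 := by
  have h := H904.McLCent.card_L hT
  have h0 : Nat.card H = 1796256000 := by
    rw [← S.index_mul_card, h, hN]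
  have hn : Nat.card H ≠ 0 := Nat.card_pos.ne'
  have h1 := Nat.prime_five.pow_dvd_iff_le_factorization (k := 3) hn
  have h2 := Nat.prime_five.pow_dvd_iff_le_factorization (k := 4) hn
  rw [h0] at h1 h2 ⊢
  norm_num at h1 h2
  omega

theorem card_inv_eq (M : McLData S) (hC : Subgroup.centralizer (S : Set H) = ⊥)
    (hT : Spor.IsoMcL S) {g : H} (hg : g ∉ S) :
    Nat.card {C : ConjClasses S // ConjClasses.map ((MulAut.conjNormal g : MulAut S) : S ≃* S).toMonoidHom C = C} =
      12 + 2 * (Finset.univ.filter fun b => (!(11 ∣ M.dP b : Bool)) = true).card := by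
  rw [M.nP]
  have h := M.cls.card_inv hT M.h1 M.h1' M.h2 M.h3 (not_inner' hC hg)
  rw [h]
  exact M.n14

/-- the `5`-regular classes -/
theorem card_reg (M : McLData S) (hN : S.index = 2) (hC : Subgroup.centralizer (S : Set H) = ⊥)
    (hT : Spor.IsoMcL S) : Nat.card {c : ConjClasses H // ¬ 5 ∣ orderOf (Quotient.out c)} = 25 := by
  obtain ⟨g, hg⟩ := exists_outer hN
  have hα := not_inner' hC hg
  have h := reg_two (N := S) hN Nat.prime_five (by norm_num)
  have ho : ∀ i, orderOf (Quotient.out (ConjClasses.mk (M.C.x i))) = M.o i := by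
    intro i
    rw [← M.order]
    refine orderOf_isConj (ConjClasses.mk_eq_mk_iff_isConj.1 ?_)
    exact Quotient.out_eq (ConjClasses.mk (M.C.x i))
  have hi : ∀ i, InvC S (ConjClasses.mk (M.C.x i)) ↔ Sw (M.o i) = false := fun i =>
    (invC_iff' hN hg).trans (M.stay_iff hT hα i)
  have e1 := M.card_classes_eq (fun c => ¬ 5 ∣ orderOf (Quotient.out c) ∧ InvC S c)
    (fun i => !(5 ∣ M.o i : Bool) && !Sw (M.o i)) (fun i => by
      rw [ho, hi, Bool.and_eq_true, Bool.not_eq_true', Bool.not_eq_true', decide_eq_false_iff_not])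
  have e2 := M.card_classes_eq (fun c => ¬ 5 ∣ orderOf (Quotient.out c) ∧ ¬ InvC S c)
    (fun i => !(5 ∣ M.o i : Bool) && Sw (M.o i)) (fun i => by
      rw [ho, hi, Bool.and_eq_true, Bool.not_eq_true', decide_eq_false_iff_not, Bool.not_eq_false])
  rw [M.nreg] at e1
  rw [M.nreg'] at e2
  rw [e1, e2] at h
  omega

theorem dvd_of_false {n m : ℕ} (h : (!(n ∣ m : Bool)) = false) : n ∣ m := by
  rw [Bool.not_eq_false', decide_eq_true_iff] at h
  exact h

/-- the characters of `5`-defect zero -/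
theorem card_dz (M : McLData S) (hN : S.index = 2) (hC : Subgroup.centralizer (S : Set H) = ⊥)
    (hT : Spor.IsoMcL S) :
    Nat.card {χ : IrrCharacter H // (charDegree (χ : H → ℂ)).factorization 5 = 3} = 7 := by
  classical
  obtain ⟨g, hg⟩ := exists_outer hN
  have hα := not_inner' hC hg
  have h := Cliff.card_two hN (fun n => n.factorization 5 = 3) (fun n => by rw [fac_two])
  have h1 := count_inv M.Θ ((MulAut.conjNormal g : MulAut S) : S ≃* S) (q := 11) (by norm_num)
    (M.hA hT hα) (M.hB hT hα) (fun b => !(11 ∣ M.dP b : Bool))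
    (fun b hb => by
      rw [fac11 hT, pow_one, M.hdP]
      exact dvd_of_false hb) (card_inv_eq M hC hT hg) (fun n => n.factorization 5 = 3)
    (fun a => (125 ∣ M.dR a : Bool)) (fun b => (125 ∣ M.dP b : Bool))
    (fun a => by rw [M.hdR, fac_iff (M.n625R a), decide_eq_true_iff])
    (fun b => by rw [M.hdP, fac_iff (M.n625P b), decide_eq_true_iff])
  simp only [Bool.not_not] at h1
  rw [M.dz1, M.dz2, M.dz3] at h1
  have e1 : Nat.card {ψ : IrrCharacter S // (charDegree (ψ : S → ℂ)).factorization 5 = 3 ∧ Cliff.Inv S ψ} = 3 + 2 * 0 := by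
    rw [← h1.1]
    exact Nat.card_congr (Equiv.subtypeEquivRight fun ψ => by rw [inv_iff' hN hg])
  have e2 : Nat.card {ψ : IrrCharacter S // (charDegree (ψ : S → ℂ)).factorization 5 = 3 ∧ ¬ Cliff.Inv S ψ} = 2 * 1 := by
    rw [← h1.2]
    exact Nat.card_congr (Equiv.subtypeEquivRight fun ψ => by rw [inv_iff' hN hg])
  rw [e1, e2] at h
  omega

/-- **The row `McL.2`**: from the local number `k(N(P)/P) = 18`. -/
theorem cnt_of (hLoc : H34.TI.LocGen.{u}) (M : McLData S) (hN : S.index = 2)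
    (hC : Subgroup.centralizer (S : Set H) = ⊥) (hT : Spor.IsoMcL S)
    (hK : ∀ P : Sylow 5 H, H34.TI.IsTI (P : Subgroup H) →
      Nat.card (ConjClasses ((Subgroup.normalizer ((P : Subgroup H) : Set H)) ⧸
        ((P : Subgroup H).subgroupOf (Subgroup.normalizer ((P : Subgroup H) : Set H))))) = 18) :
    H34.TI.Cnt 5 H := by
  intro P hP
  have : Fact (Nat.Prime 5) := ⟨Nat.prime_five⟩
  have h1 := hLoc 5 H P hP
  have h2 := hK P hP
  have h3 := card_reg M hN hC hT
  have h4 := card_dz M hN hC hT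
  have h5 := fac5 hN hT
  have h6 : Nat.card {χ : IrrCharacter H // H34.TI.IsDz 5 χ} = 7 := by
    rw [← h4]
    refine Nat.card_congr (Equiv.subtypeEquivRight fun χ => ?_)
    unfold H34.TI.IsDz
    rw [h5]
  have h7 : Nat.card (ConjClasses H) = Nat.card (H34.TI.Reg 5 H) + Nat.card (H34.TI.Sing 5 H) := by
    have h8 := card_split (α := ConjClasses H) (fun _ => True) (fun c => ¬ 5 ∣ orderOf (Quotient.out c))
    have h9 : Nat.card {c : ConjClasses H // True} = Nat.card (ConjClasses H) :=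
      Nat.card_congr (Equiv.subtypeUnivEquiv fun _ => trivial)
    rw [h9] at h8
    rw [h8]
    congr 1
    · exact Nat.card_congr (Equiv.subtypeEquivRight fun c => ⟨fun h => h.2, fun h => ⟨trivial, h⟩⟩)
    · exact Nat.card_congr (Equiv.subtypeEquivRight fun c => ⟨fun h => not_not.1 h.2, fun h => ⟨trivial, not_not.2 h⟩⟩)
  have h8 : Nat.card (H34.TI.Reg 5 H) = 25 := h3
  rw [h7, h1, h2, h6, h8]
  omega

end Count

end Cfsg.Agent.H41.McLTwo
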