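import Cfsg.Agent.H41.McLTwo.Ords
import Cfsg.Agent.H41.McLTwo.Main

/-!
# Packing of the class list of `McL` (helper41, task 5084)
-/

set_option autoImplicit false
set_option maxRecDepth 100000

namespace Cfsg.Agent.H41.McLTwo

open Cfsg Cfsg.Agent.H359.CT.McL Cfsg.Agent.H904.McLCent Cfsg.Agent.McLType.X275 Cfsg.Agent.McLType.Gens
open Cfsg.Agent.H447.CTab
open Cfsg.Agent.H41.McLTwo.Ords (os iv order_xs)

universe u

theorem p1 : ∀ i j : Fin 24, Sw (os i) = true → os i = os j → j = i ∨ j = iv i := by decide +kernel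
theorem p1' : ∀ i : Fin 24, Sw (os i) = true → iv i ≠ i := by decide +kernel
theorem p11 : ∀ i : Fin 24, 11 ∣ os i → os i = 11 := by decide +kernel
theorem p2 : ∀ i j : Fin 24, os i = 11 → os j = 11 → j = i ∨ j = iv i := by decide +kernel
theorem p3 : ∀ i j : Fin 24, Sw (os i) = false → os i ≠ 11 → os i = os j → cc i = cc j → i = j := by decide +kernel
theorem p14 : (Finset.univ.filter fun i : Fin 24 => Sw (os i) = false).card = 14 := by decide +kernel
theorem preg : (Finset.univ.filter fun i : Fin 24 => (!(5 ∣ os i : Bool) && !Sw (os i)) = true).card = 11 := by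
  decide +kernel
theorem preg' : (Finset.univ.filter fun i : Fin 24 => (!(5 ∣ os i : Bool) && Sw (os i)) = true).card = 6 := by
  decide +kernel

/-- **Packing** -/
def McLData.mk' {G : Type u} [Group G] [Finite G] (e : G ≃* ↥K0) {r : ℕ} {rc : Fin 24 → Fin r} (C : ClassTab G 24)
    (hx : ∀ i, C.x i = e.symm (xs i)) (hc : ∀ i, C.c i = cc i) (Θ : Table C rc 12 6) (dR : Fin 12 → ℕ) (dP : Fin 6 → ℕ)
    (hdR : ∀ a, (Θ.R a (rc Θ.i0)).toNat = dR a) (hdP : ∀ b, (Θ.P b (rc Θ.i0)).toNat / 2 = dP b)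
    (nP : (Finset.univ.filter fun b => (!(11 ∣ dP b : Bool)) = true).card = 1)
    (dz1 : (Finset.univ.filter fun a => (125 ∣ dR a : Bool) = true).card = 3)
    (dz2 : (Finset.univ.filter fun b => ((125 ∣ dP b : Bool) && (11 ∣ dP b : Bool)) = true).card = 1)
    (dz3 : (Finset.univ.filter fun b => ((125 ∣ dP b : Bool) && !(11 ∣ dP b : Bool)) = true).card = 0)
    (n625R : ∀ a, ¬ 625 ∣ dR a) (n625P : ∀ a, ¬ 625 ∣ dP a) : McLData G where
  r := r
  C := C
  rc := rc
  Θ := Θ
  o := os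
  inv := iv
  order := fun i => by
    rw [hx, ← order_xs i]
    exact orderOf_injective e.symm.toMonoidHom e.symm.injective (xs i)
  hinv := fun i => by
    rw [hx, hx, ← map_inv]
    exact e.symm.toMonoidHom.map_isConj (Ords.hinv i)
  dR := dR
  dP := dP
  hdR := hdR
  hdP := hdP
  h1 := p1
  h1' := p1'
  h11 := p11
  h2 := p2
  h3 := fun i j a b c d => p3 i j a b c (by rw [← hc, ← hc]; exact d)
  n14 := p14
  nreg := preg
  nreg' := preg'
  nP := nP
  dz1 := dz1
  dz2 := dz2
  dz3 := dz3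
  n625R := n625R
  n625P := n625P

end Cfsg.Agent.H41.McLTwo
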