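import Cfsg.Agent.H359.CT.McLClass

/-!
# Orders and inverses of the 24 classes of `McL` (helper41, task 5084)
-/

set_option autoImplicit false
set_option maxRecDepth 100000

namespace Cfsg.Agent.H41.McLTwo.Ords

open Cfsg Equiv Subgroup Cfsg.Agent.H359.CT Cfsg.Agent.H359.CT.McL Cfsg.Agent.H904.McLCent Cfsg.Agent.SporadicA.PermTab

/-- the orders of the rational representatives -/
def og (i : Fin 18) : ℕ := [1, 2, 3, 3, 4, 5, 5, 6, 6, 7, 8, 9, 10, 11, 12, 14, 15, 30].getD i 0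

theorem og_pos : ∀ i, 0 < og i := by decide

theorem og_chk : ∀ i : Fin 18, chkPow 275 (XT i) (og i) = true := by decide +kernel

theorem og_chk2 : ∀ i : Fin 18, ∀ p ∈ [2, 3, 5, 7, 11], p ∣ og i → chkPow 275 (XT i) (og i / p) = false := by
  decide +kernel

theorem og_dvd : ∀ i : Fin 18, og i ∣ 55440 := by decide

theorem og_primes : ∀ i : Fin 18, (og i).primeFactors ⊆ {2, 3, 5, 7, 11} := by
  intro i p hp
  have h1 := Nat.prime_of_mem_primeFactors hp
  have h2 := Nat.dvd_of_mem_primeFactors hp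
  have h4 : p ∣ 55440 := h2.trans (og_dvd i)
  have h5 : (55440 : ℕ) = 2 ^ 4 * (3 ^ 2 * (5 * (7 * 11))) := by norm_num
  rw [h5, h1.dvd_mul, h1.dvd_mul, h1.dvd_mul, h1.dvd_mul] at h4
  simp only [Finset.mem_insert, Finset.mem_singleton]
  rcases h4 with h | h | h | h | h
  · exact Or.inl ((Nat.prime_dvd_prime_iff_eq h1 Nat.prime_two).1 (h1.dvd_of_dvd_pow h))
  · exact Or.inr (Or.inl ((Nat.prime_dvd_prime_iff_eq h1 Nat.prime_three).1 (h1.dvd_of_dvd_pow h)))
  · exact Or.inr (Or.inr (Or.inl ((Nat.prime_dvd_prime_iff_eq h1 Nat.prime_five).1 h)))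
  · exact Or.inr (Or.inr (Or.inr (Or.inl ((Nat.prime_dvd_prime_iff_eq h1 (by norm_num)).1 h))))
  · exact Or.inr (Or.inr (Or.inr (Or.inr ((Nat.prime_dvd_prime_iff_eq h1 (by norm_num)).1 h))))

theorem order_gs' (i : Fin 18) : orderOf (gs i) = og i := by
  refine order_gs (og_pos i) (og_chk i) fun p hp => ?_
  have h1 := og_primes i hp
  have h2 := Nat.dvd_of_mem_primeFactors hp
  simp only [Finset.mem_insert, Finset.mem_singleton] at h1
  refine og_chk2 i p ?_ h2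
  simp only [List.mem_cons, List.not_mem_nil, or_false]
  exact h1

/-- the orders of the representatives -/
def os (j : Fin 24) : ℕ := og (rc j)

theorem order_xs (j : Fin 24) : orderOf (xs j) = os j := by
  unfold xs os
  split_ifs
  · exact order_gs' _
  · rw [orderOf_inv]
    exact order_gs' _

/-- the inverse classes -/
def iv (j : Fin 24) : Fin 24 :=
  [0, 1, 2, 3, 4, 5, 6, 7, 8, 18, 10, 19, 12, 20, 14, 21, 22, 23, 9, 11, 13, 15, 16, 17].getD j 0

theorem comb2 : ∀ j : Fin 24, (rc j ≠ 9 ∧ rc j ≠ 11 ∧ rc j ≠ 13 ∧ rc j ≠ 15 ∧ rc j ≠ 16 ∧ rc j ≠ 17 ∧ iv j = j) ∨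
    (((j : ℕ) < 18 ∧ ¬ ((iv j : Fin 24) : ℕ) < 18) ∨ (¬ (j : ℕ) < 18 ∧ ((iv j : Fin 24) : ℕ) < 18)) ∧ rc (iv j) = rc j := by
  decide +kernel

theorem hinv (j : Fin 24) : IsConj (xs (iv j)) (xs j)⁻¹ := by
  rcases comb2 j with ⟨a1, a2, a3, a4, a5, a6, h⟩ | ⟨h, h2⟩
  · rw [h]
    obtain ⟨l, hl⟩ := classes.1 (xs j)⁻¹
    have h1 : ∀ e : Fin 12, (fpt.getD (rc l) []).getD e 0 = (fpt.getD (rc j) []).getD e 0 := by
      intro e
      rw [← FP_xs, ← FP_xs, FP_conj _ (coe_conj hl)]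
      exact FP_inv _ _
    have h2 : rc j = rc l := (rc_unique _ _ (h1 0) (h1 1) (h1 4) (h1 7)).symm
    rcases comb j l h2 with h3 | ⟨h3, -⟩
    · rw [← h3] at hl
      exact hl
    · exfalso
      tauto
  · have h3 : xs (iv j) = (xs j)⁻¹ := by
      unfold xs
      rcases h with ⟨h, h'⟩ | ⟨h, h'⟩
      · rw [if_pos h, if_neg h', h2]
      · rw [if_neg h, if_pos h', h2, inv_inv]
    rw [h3]

end Cfsg.Agent.H41.McLTwo.Ords
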