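import Cfsg.Agent.H41.McLTwo.LocE
import Cfsg.Agent.H359.CT.McLCnt

/-!
# S4820: `Cnt 5` for `McL` (helper41, task 5084; the class and character counts are helper359's)
-/

set_option autoImplicit false

namespace Cfsg.Agent.H41.McLTwo

open Cfsg Subgroup

universe u

/-- **The row `McL`.** -/
theorem cnt_mcl {X : Type u} [Group X] [Finite X] (h : Spor.IsoMcL X) : H34.TI.Cnt 5 X :=
  H359.CT.McL.cnt_isoMcL h H608.TI.locGen fun P hP => k_quot_one h P hP

/-- **`McL` and `McL.2`.** -/
theorem cnt_both {H : Type u} [Group H] [Finite H] (S : Subgroup H) [hSn : S.Normal] (hidx : S.index = 1 ∨ S.index = 2)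
    (hC : centralizer (S : Set H) = ⊥) (hS : Spor.IsoMcL S) : H34.TI.Cnt 5 H := by
  rcases hidx with h | h
  · rw [index_eq_one] at h
    subst h
    obtain ⟨e⟩ := hS
    exact cnt_mcl ⟨topEquiv.symm.trans e⟩
  · exact cnt_mcl_two ⟨S, hSn, h, hC, hS⟩

end Cfsg.Agent.H41.McLTwo
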