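import Cfsg.Agent.H447.CTab
import Cfsg.Agent.H692.RealOver
import Cfsg.Agent.S0173

/-!
# Invariant characters from a table (helper41, task 5084)

`Θ : Table T rc m n`, `α` an automorphism which maps every `q`-regular element to a conjugate of its inverse; the rational
characters are invariant, the complex ones of `q`-defect zero are not.
-/

set_option autoImplicit false

namespace Cfsg.Agent.H41.McLTwo

open Cfsg Cfsg.Agent.Characters.Core Cfsg.Agent.H447.CTab
open scoped ComplexConjugate

universe u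

theorem cf_isConj {G : Type u} [Group G] {φ : G → ℂ} (h : IsClassFunction G φ) {a b : G} (hab : IsConj a b) :
    φ a = φ b := by
  obtain ⟨g, rfl⟩ := isConj_iff.1 hab
  exact (h a g).symm

theorem card_sum_filter {m n : ℕ} (u : Fin m → Bool) (w : Fin n → Bool) :
    Nat.card {x : Fin m ⊕ Fin n × Bool // Sum.elim u (fun p => w p.1) x = true} =
      (Finset.univ.filter fun a => u a = true).card + 2 * (Finset.univ.filter fun b => w b = true).card := by
  rw [Nat.card_congr (Equiv.subtypeSum), Nat.card_sum]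
  congr 1
  · show Nat.card {a // u a = true} = _
    rw [Nat.card_eq_fintype_card, Fintype.card_subtype]
  · show Nat.card {p : Fin n × Bool // w p.1 = true} = _
    rw [Nat.card_congr (Equiv.prodSubtypeFstEquivSubtypeProd (p := fun b => w b = true)), Nat.card_prod,
      Nat.card_eq_fintype_card (α := Bool), Fintype.card_bool, Nat.card_eq_fintype_card, Fintype.card_subtype, mul_comm]

variable {G : Type u} [Group G] [Finite G] {k r m n : ℕ} {T : ClassTab G k} {rc : Fin k → Fin r}

/-- **The list of the irreducible characters with degrees and invariance.** -/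
theorem exists_list (Θ : Table T rc m n) (α : G ≃* G) {q : ℕ} (hq : q.Prime)
    (hA : ∀ t : G, ¬ q ∣ orderOf t → IsConj (α t) t⁻¹)
    (hB : ∀ t : G, IsConj (α t) t ∨ IsConj (α t) t⁻¹) (v : Fin n → Bool)
    (hv : ∀ b, v b = false → q ^ (Nat.card G).factorization q ∣ (Θ.P b (rc Θ.i0)).toNat / 2)
    (hc : Nat.card {C : ConjClasses G // ConjClasses.map α.toMonoidHom C = C} =
      m + 2 * (Finset.univ.filter fun b => v b = true).card) :
    ∃ e : (Fin m ⊕ Fin n × Bool) ≃ IrrCharacter G,
      (∀ a, charDegree (e (Sum.inl a) : G → ℂ) = (Θ.R a (rc Θ.i0)).toNat) ∧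
      (∀ p, charDegree (e (Sum.inr p) : G → ℂ) = (Θ.P p.1 (rc Θ.i0)).toNat / 2) ∧
      ∀ x, (e x : G → ℂ) ∘ α = e x ↔ Sum.elim (fun _ => true) (fun p => v p.1) x = true := by
  classical
  obtain ⟨χ, ψ, hχ, hψ, hne, hbij⟩ := Θ.exists_irr
  have hd : ∀ p : Fin n × Bool, charDegree ((if p.2 then ψ p.1 else cj (ψ p.1) : IrrCharacter G) : G → ℂ) =
      (Θ.P p.1 (rc Θ.i0)).toNat / 2 := by
    rintro ⟨b, s⟩
    obtain ⟨d, -, hd⟩ := isIrr_apply_one (ψ b).2
    have hd' : (cj (ψ b) : G → ℂ) 1 = d := by
      show conj ((ψ b : G → ℂ) 1) = d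
      rw [hd, Complex.conj_natCast]
    have h3 := hψ b Θ.i0
    rw [Θ.hi0, hd, hd'] at h3
    have h4 : (d : ℤ) + (d : ℤ) = Θ.P b (rc Θ.i0) := by exact_mod_cast h3
    have h5 : ((if s then ψ b else cj (ψ b) : IrrCharacter G) : G → ℂ) 1 = ((d : ℤ) : ℂ) := by
      rcases s with _ | _
      · exact hd'
      · exact hd
    rw [Table.degree_eq h5, ← h4]
    omega
  -- the rational characters
  have hR : ∀ a, (χ a : G → ℂ) ∘ α = χ a := by
    intro a
    funext t
    show (χ a : G → ℂ) (α t) = (χ a : G → ℂ) t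
    rcases hB t with h | h
    · exact cf_isConj (isIrr_isClassFunction (χ a).2) h
    · rw [cf_isConj (isIrr_isClassFunction (χ a).2) h, isCharacter_apply_inv (isIrr_isCharacter (χ a).2)]
      rw [T.apply (isIrr_isClassFunction (χ a).2) t, hχ, map_intCast]
  -- the complex characters of defect zero
  have hnot : ∀ b, v b = false → ¬ (ψ b : G → ℂ) ∘ α = ψ b := by
    intro b hb h
    refine hne b (Subtype.ext (funext fun t => ?_))
    show conj ((ψ b : G → ℂ) t) = (ψ b : G → ℂ) t
    have hdb := hd (b, true)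
    have hdeg : q ^ (Nat.card G).factorization q ∣ charDegree (ψ b : G → ℂ) := by
      have h1 : charDegree (ψ b : G → ℂ) = (Θ.P b (rc Θ.i0)).toNat / 2 := hdb
      rw [h1]
      exact hv b hb
    by_cases ht : q ∣ orderOf t
    · rw [H692.RealOver.defect_zero_vanish (ψ b).2 q hq hdeg ht, map_zero]
    · have h1 := congrFun h t
      have h2 : (ψ b : G → ℂ) (α t) = (ψ b : G → ℂ) t := h1
      rw [cf_isConj (isIrr_isClassFunction (ψ b).2) (hA t ht),
        isCharacter_apply_inv (isIrr_isCharacter (ψ b).2)] at h2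
      exact h2
  have hnot' : ∀ b, v b = false → ¬ (cj (ψ b) : G → ℂ) ∘ α = cj (ψ b) := by
    intro b hb h
    refine hnot b hb (funext fun t => ?_)
    have h1 : conj ((ψ b : G → ℂ) (α t)) = conj ((ψ b : G → ℂ) t) := congrFun h t
    have h2 := congrArg conj h1
    rw [Complex.conj_conj, Complex.conj_conj] at h2
    exact h2
  let e : (Fin m ⊕ Fin n × Bool) ≃ IrrCharacter G := Equiv.ofBijective _ hbij
  have he1 : ∀ a, e (Sum.inl a) = χ a := fun _ => rfl
  have he2 : ∀ p : Fin n × Bool, e (Sum.inr p) = if p.2 then ψ p.1 else cj (ψ p.1) := fun _ => rfl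
  have hsub : ∀ x, (e x : G → ℂ) ∘ α = e x → Sum.elim (fun _ => true) (fun p => v p.1) x = true := by
    rintro (a | ⟨b, s⟩) h
    · rfl
    · show v b = true
      by_contra hb
      rw [Bool.not_eq_true] at hb
      rw [he2] at h
      rcases s with _ | _
      · exact hnot' b hb h
      · exact hnot b hb h
  refine ⟨e, fun a => ?_, fun p => ?_, fun x => ⟨hsub x, fun hx => ?_⟩⟩
  · rw [he1]
    exact Table.degree_eq (by rw [← hχ a, Θ.hi0])
  · rw [he2]
    exact hd p
  · by_contra hcon
    have h1 : Nat.card {χ : IrrCharacter G // (χ : G → ℂ) ∘ α = (χ : G → ℂ)} =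
        Nat.card {x : Fin m ⊕ Fin n × Bool // (e x : G → ℂ) ∘ α = e x} :=
      (Nat.card_congr (Equiv.subtypeEquiv e fun x => Iff.rfl)).symm
    have h2 := card_sum_filter (fun _ : Fin m => true) v
    have h3 : (Finset.univ.filter fun a : Fin m => (fun _ : Fin m => true) a = true).card = m := by simp
    rw [h3] at h2
    have h4 := S0173.result α
    rw [hc, h1, ← h2] at h4
    rw [Nat.card_eq_fintype_card, Nat.card_eq_fintype_card, Fintype.card_subtype, Fintype.card_subtype] at h4
    have h5 : (Finset.univ.filter fun x : Fin m ⊕ Fin n × Bool => (e x : G → ℂ) ∘ α = e x) ⊂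
        (Finset.univ.filter fun x : Fin m ⊕ Fin n × Bool => Sum.elim (fun _ => true) (fun p => v p.1) x = true) := by
      rw [Finset.ssubset_iff_of_subset]
      · exact ⟨x, Finset.mem_filter.2 ⟨Finset.mem_univ _, hx⟩, fun h => hcon (Finset.mem_filter.1 h).2⟩
      · intro y hy
        exact Finset.mem_filter.2 ⟨Finset.mem_univ _, hsub y (Finset.mem_filter.1 hy).2⟩
    exact absurd (Finset.card_lt_card h5) (by rw [h4]; exact lt_irrefl _)

/-- the numbers of invariant and not invariant characters with a property of the degree -/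
theorem count_inv (Θ : Table T rc m n) (α : G ≃* G) {q : ℕ} (hq : q.Prime)
    (hA : ∀ t : G, ¬ q ∣ orderOf t → IsConj (α t) t⁻¹)
    (hB : ∀ t : G, IsConj (α t) t ∨ IsConj (α t) t⁻¹) (v : Fin n → Bool)
    (hv : ∀ b, v b = false → q ^ (Nat.card G).factorization q ∣ (Θ.P b (rc Θ.i0)).toNat / 2)
    (hc : Nat.card {C : ConjClasses G // ConjClasses.map α.toMonoidHom C = C} =
      m + 2 * (Finset.univ.filter fun b => v b = true).card)
    (D : ℕ → Prop) (u : Fin m → Bool) (w : Fin n → Bool)
    (hu : ∀ a, D (Θ.R a (rc Θ.i0)).toNat ↔ u a = true) (hw : ∀ b, D ((Θ.P b (rc Θ.i0)).toNat / 2) ↔ w b = true) :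
    Nat.card {χ : IrrCharacter G // D (charDegree (χ : G → ℂ)) ∧ (χ : G → ℂ) ∘ α = χ} =
        (Finset.univ.filter fun a => u a = true).card + 2 * (Finset.univ.filter fun b => (w b && v b) = true).card ∧
      Nat.card {χ : IrrCharacter G // D (charDegree (χ : G → ℂ)) ∧ ¬ (χ : G → ℂ) ∘ α = χ} =
        2 * (Finset.univ.filter fun b => (w b && !v b) = true).card := by
  obtain ⟨e, h1, h2, h3⟩ := exists_list Θ α hq hA hB v hv hc
  constructor
  · rw [← card_sum_filter]
    refine (Nat.card_congr (Equiv.subtypeEquiv e fun x => ?_)).symm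
    rw [h3 x]
    rcases x with a | p
    · rw [h1, hu]
      simp
    · rw [h2, hw]
      simp
  · have h4 := card_sum_filter (fun _ : Fin m => false) (fun b => w b && !v b)
    have h5 : (Finset.univ.filter fun a : Fin m => (fun _ : Fin m => false) a = true).card = 0 := by simp
    rw [h5, zero_add] at h4
    rw [← h4]
    refine (Nat.card_congr (Equiv.subtypeEquiv e fun x => ?_)).symm
    rw [h3 x]
    rcases x with a | p
    · simp
    · rw [h2, hw]
      simp

end Cfsg.Agent.H41.McLTwo
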