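import Cfsg.Agent.H41.McLTwo.Data
import Cfsg.Agent.H692.CubeMcL

/-!
# Outer automorphisms of `McL` (helper41, task 5084)

* `inv_of` : for `n = 7, 9, 14, 15, 30` there is `y ∈ McL` of order `n` with `α y` conjugate to `y⁻¹` for every automorphism `α`
  which is not inner;
* `eleven` : there is `y` of order 11 with `α y` conjugate to `y`.
-/

set_option autoImplicit false
set_option maxRecDepth 20000

namespace Cfsg.Agent.H41.McLTwo

open Cfsg Cfsg.Spor Cfsg.Agent.LThreeCo1.Ev Cfsg.Agent.SporadicStructure.Co0Matrix Cfsg.Agent.CoOneType.CoEval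
open Cfsg.Agent.H997.OutMcL (W mem_McL map_W)
open Data

theorem word {w w' : List ℕ} (h : eqB M w w' = true) : (w.map e).prod = (w'.map e).prod := eq_of_eqB rep h

theorem nword {w w' : List ℕ} (h : neB' M w w' = true) : (w.map e).prod ≠ (w'.map e).prod := ne_of_neB' rep h

/-! ### The vectors -/

def lU : List ℤ := [4, 0, 0, 0, 0, 0, 0, 0, 0, 0, 0, 0, 0, 0, 0, 0, 0, 0, 0, 0, 0, 0, 0, 4]
def lV : List ℤ := [-1, -1, -1, -1, -1, -1, -1, -1, -1, -1, -1, -1, -1, -1, -1, -1, -1, -1, -1, -1, -1, -1, -1, -5]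
def lW : List ℤ := [-3, 1, 1, 1, 1, 1, 1, 1, 1, 1, 1, 1, 1, 1, 1, 1, 1, 1, 1, 1, 1, 1, 1, 1]

theorem coe_U : ((leechU : leechLattice) : GolayPt → ℤ) = vec lU := by
  show vecU = _
  decide +kernel
theorem coe_V : ((leechV : leechLattice) : GolayPt → ℤ) = vec lV := by
  show vecV = _
  decide +kernel
theorem coe_W : ((W : leechLattice) : GolayPt → ℤ) = vec lW := by
  show -vecV - vecU = _
  decide +kernel

theorem chkU : ∀ i < 5, ap (M i) lU = lW := by decide +kernel
theorem chkV : ∀ i < 5, ap (M i) lV = lV := by decide +kernel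
theorem chkW : ∀ i < 5, ap (M i) lW = lU := by decide +kernel

theorem eU {i : ℕ} (hi : i < 5) : (e i : Equiv.Perm leechLattice) leechU = W := by
  apply Subtype.ext
  refine ((rep i).apply (l := lU) (by decide) coe_U).trans ?_
  rw [chkU i hi, coe_W]

theorem eV {i : ℕ} (hi : i < 5) : (e i : Equiv.Perm leechLattice) leechV = leechV := by
  apply Subtype.ext
  refine ((rep i).apply (l := lV) (by decide) coe_V).trans ?_
  rw [chkV i hi, coe_V]

theorem eW {i : ℕ} (hi : i < 5) : (e i : Equiv.Perm leechLattice) W = leechU := by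
  apply Subtype.ext
  refine ((rep i).apply (l := lW) (by decide) coe_W).trans ?_
  rw [chkW i hi, coe_U]

/-! ### Relations -/

theorem sq0 : e 0 * e 0 = 1 := by
  have h := word (w := [0, 0]) (w' := []) (by decide +kernel)
  simpa using h
theorem sq1 : e 1 * e 1 = 1 := by
  have h := word (w := [1, 1]) (w' := []) (by decide +kernel)
  simpa using h
theorem sq2 : e 2 * e 2 = 1 := by
  have h := word (w := [2, 2]) (w' := []) (by decide +kernel)
  simpa using h
theorem sq3 : e 3 * e 3 = 1 := by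
  have h := word (w := [3, 3]) (w' := []) (by decide +kernel)
  simpa using h

/-- the word `(0 i) ^ n` -/
def pw (i n : ℕ) : List ℕ := (List.replicate n [0, i]).flatten

theorem pw_prod (i n : ℕ) : ((pw i n).map e).prod = (e 0 * e i) ^ n := by
  induction n with
  | zero => rfl
  | succ n ih =>
    have h : pw i (n + 1) = [0, i] ++ pw i n := by
      unfold pw
      rw [List.replicate_succ, List.flatten_cons]
    rw [h, List.map_append, List.prod_append, ih, pow_succ']
    simp

theorem pow_one_of {i n : ℕ} (h : eqB M (pw i n) [] = true) : (e 0 * e i) ^ n = 1 := by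
  rw [← pw_prod, word h]
  rfl

theorem pow_ne_of {i n : ℕ} (h : neB' M (pw i n) [] = true) : (e 0 * e i) ^ n ≠ 1 := by
  rw [← pw_prod]
  exact nword h

/-- the order of `e 0 * e i` from the checks -/
theorem order_of {i n : ℕ} (hn : 0 < n) (h1 : eqB M (pw i n) [] = true)
    (h2 : ∀ p, p.Prime → p ∣ n → neB' M (pw i (n / p)) [] = true) : orderOf (e 0 * e i) = n := by
  refine orderOf_eq_of_pow_and_pow_div_prime hn (pow_one_of h1) fun p hp hpn => ?_
  exact pow_ne_of (h2 p hp hpn)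

theorem order14 : orderOf (e 0 * e 1) = 14 := by
  refine order_of (by norm_num) (by decide +kernel) fun p hp hpn => ?_
  have h : p ∣ 2 * 7 := hpn
  rcases hp.dvd_mul.1 h with h | h
  · obtain rfl := (Nat.prime_dvd_prime_iff_eq hp (by norm_num)).1 h
    decide +kernel
  · obtain rfl := (Nat.prime_dvd_prime_iff_eq hp (by norm_num)).1 h
    decide +kernel

theorem order30 : orderOf (e 0 * e 2) = 30 := by
  refine order_of (by norm_num) (by decide +kernel) fun p hp hpn => ?_
  have h : p ∣ 2 * 3 * 5 := hpn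
  rcases hp.dvd_mul.1 h with h | h
  · rcases hp.dvd_mul.1 h with h | h
    · obtain rfl := (Nat.prime_dvd_prime_iff_eq hp (by norm_num)).1 h
      decide +kernel
    · obtain rfl := (Nat.prime_dvd_prime_iff_eq hp (by norm_num)).1 h
      decide +kernel
  · obtain rfl := (Nat.prime_dvd_prime_iff_eq hp (by norm_num)).1 h
    decide +kernel

theorem order9 : orderOf (e 0 * e 3) = 9 := by
  refine order_of (by norm_num) (by decide +kernel) fun p hp hpn => ?_
  have h : p ∣ 3 ^ 2 := hpn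
  obtain rfl := (Nat.prime_dvd_prime_iff_eq hp (by norm_num)).1 (hp.dvd_of_dvd_pow h)
  decide +kernel

theorem order11 : orderOf (e 4 * e 4) = 11 := by
  have h1 : (e 4 * e 4) ^ 11 = 1 := by
    have h := word (w := List.replicate 22 4) (w' := []) (by decide +kernel)
    rw [List.map_replicate, List.prod_replicate, List.map_nil, List.prod_nil] at h
    rw [← pow_two, ← pow_mul]
    exact h
  have h2 : e 4 * e 4 ≠ 1 := by
    have h := nword (w := [4, 4]) (w' := []) (by decide +kernel)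
    simpa using h
  have : Fact (Nat.Prime 11) := ⟨by norm_num⟩
  exact orderOf_eq_prime h1 h2

/-! ### Elements of `McL` -/

theorem mem_mul {i j : ℕ} (hi : i < 5) (hj : j < 5) :
    ((e i * e j : Co0) : Equiv.Perm leechLattice) ∈ McL := by
  refine mem_McL.2 ⟨(e i * e j).2, ?_, ?_⟩
  · show (e i : Equiv.Perm leechLattice) ((e j : Equiv.Perm leechLattice) leechV) = leechV
    rw [eV hj, eV hi]
  · show (e i : Equiv.Perm leechLattice) ((e j : Equiv.Perm leechLattice) leechU) = leechU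
    rw [eU hj, eW hi]

/-- the element of `McL` -/
noncomputable def yy {i j : ℕ} (hi : i < 5) (hj : j < 5) : McL := ⟨_, mem_mul hi hj⟩

theorem order_yy {i j : ℕ} (hi : i < 5) (hj : j < 5) : orderOf (yy hi hj) = orderOf (e i * e j) := by
  rw [← Subgroup.orderOf_coe, ← Subgroup.orderOf_coe]
  rfl

/-- conjugation by an outer automorphism against conjugation by `e i` -/
theorem conj_of {α : MulAut McL} (hα : ¬ ∃ s, α = MulAut.conj s) {i : ℕ} (hi : i < 5) {y y' : McL}
    (h : (e i : Equiv.Perm leechLattice) * y * (e i : Equiv.Perm leechLattice)⁻¹ = y') : IsConj (α y) y' := by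
  obtain ⟨c, hc, hcV, hcU, hcx⟩ := H692.CubeMcL.exists_conj hα
  have hcW : c W = leechU := by
    rw [map_W hc hcV, hcU, W]
    abel
  have gV : (e i : Equiv.Perm leechLattice)⁻¹ leechV = leechV := by rw [Equiv.Perm.inv_eq_iff_eq, eV hi]
  have gU : (e i : Equiv.Perm leechLattice)⁻¹ leechU = W := by rw [Equiv.Perm.inv_eq_iff_eq, eW hi]
  have hk : c * (e i : Equiv.Perm leechLattice)⁻¹ ∈ McL := by
    refine mem_McL.2 ⟨mul_mem hc (inv_mem (e i).2), ?_, ?_⟩
    · rw [Equiv.Perm.mul_apply, gV, hcV]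
    · rw [Equiv.Perm.mul_apply, gU, hcW]
  have hk' : (⟨_, hk⟩ : McL) * y' * (⟨_, hk⟩ : McL)⁻¹ = α y := by
    apply Subtype.ext
    rw [hcx]
    show c * (e i : Equiv.Perm leechLattice)⁻¹ * (y' : Equiv.Perm leechLattice) *
      (c * (e i : Equiv.Perm leechLattice)⁻¹)⁻¹ = _
    rw [← h]
    group
  exact (isConj_iff.2 ⟨_, hk'⟩).symm

theorem inv_e0 : (e 0)⁻¹ = e 0 := inv_eq_of_mul_eq_one_left sq0

theorem flip_pow {i : ℕ} (hi : i < 5) (hsq : e i * e i = 1) (n : ℕ) :
    (e 0 : Equiv.Perm leechLattice) * ((yy (show 0 < 5 by norm_num) hi ^ n : McL) : Equiv.Perm leechLattice) *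
      (e 0 : Equiv.Perm leechLattice)⁻¹ = (((yy (show 0 < 5 by norm_num) hi ^ n)⁻¹ : McL) : Equiv.Perm leechLattice) := by
  have h : e 0 * (e 0 * e i) ^ n * (e 0)⁻¹ = ((e 0 * e i) ^ n)⁻¹ := by
    rw [← conj_pow, ← inv_pow, mul_inv_rev, inv_e0, inv_eq_of_mul_eq_one_left hsq, ← mul_assoc, sq0, one_mul]
  exact congrArg (fun x : Co0 => (x : Equiv.Perm leechLattice)) h

/-- powers of `e 0 * e i` -/
theorem inv_pow' {i : ℕ} (hi : i < 5) (hsq : e i * e i = 1) (n : ℕ) {α : MulAut McL}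
    (hα : ¬ ∃ s, α = MulAut.conj s) : IsConj (α (yy (show 0 < 5 by norm_num) hi ^ n))
      ((yy (show 0 < 5 by norm_num) hi ^ n)⁻¹) :=
  conj_of hα (show 0 < 5 by norm_num) (flip_pow hi hsq n)

/-- **Elements inverted by the outer automorphisms** -/
theorem inv_of {n : ℕ} (hn : n = 7 ∨ n = 9 ∨ n = 14 ∨ n = 15 ∨ n = 30) :
    ∃ y : McL, orderOf y = n ∧ ∀ α : MulAut McL, (¬ ∃ s, α = MulAut.conj s) → IsConj (α y) y⁻¹ := by
  rcases hn with rfl | rfl | rfl | rfl | rfl
  · refine ⟨yy (show 0 < 5 by norm_num) (show 1 < 5 by norm_num) ^ 2, ?_, fun α hα => inv_pow' _ sq1 2 hα⟩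
    rw [orderOf_pow_of_dvd two_ne_zero (by rw [order_yy, order14]; norm_num), order_yy, order14]
  · refine ⟨yy (show 0 < 5 by norm_num) (show 3 < 5 by norm_num) ^ 1, ?_, fun α hα => inv_pow' _ sq3 1 hα⟩
    rw [pow_one, order_yy, order9]
  · refine ⟨yy (show 0 < 5 by norm_num) (show 1 < 5 by norm_num) ^ 1, ?_, fun α hα => inv_pow' _ sq1 1 hα⟩
    rw [pow_one, order_yy, order14]
  · refine ⟨yy (show 0 < 5 by norm_num) (show 2 < 5 by norm_num) ^ 2, ?_, fun α hα => inv_pow' _ sq2 2 hα⟩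
    rw [orderOf_pow_of_dvd two_ne_zero (by rw [order_yy, order30]; norm_num), order_yy, order30]
  · refine ⟨yy (show 0 < 5 by norm_num) (show 2 < 5 by norm_num) ^ 1, ?_, fun α hα => inv_pow' _ sq2 1 hα⟩
    rw [pow_one, order_yy, order30]

/-- **An element of order 11 commuting with an outer element** -/
theorem eleven : ∃ y : McL, orderOf y = 11 ∧ ∀ α : MulAut McL, (¬ ∃ s, α = MulAut.conj s) → IsConj (α y) y := by
  refine ⟨yy (show 4 < 5 by norm_num) (show 4 < 5 by norm_num), by rw [order_yy, order11], fun α hα => ?_⟩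
  refine conj_of hα (show 4 < 5 by norm_num) ?_
  have h : e 4 * (e 4 * e 4) * (e 4)⁻¹ = e 4 * e 4 := by group
  exact congrArg (fun x : Co0 => (x : Equiv.Perm leechLattice)) h

/-! ### Abstract version -/

section abs

variable {T : Type*} [Group T]

theorem not_inner {φ : T ≃* McL} {α : MulAut T} (hα : ¬ ∃ s, α = MulAut.conj s) :
    ¬ ∃ s, (φ.symm.trans (α.trans φ) : MulAut McL) = MulAut.conj s := by
  rintro ⟨s, hs⟩
  apply hα
  refine ⟨φ.symm s, ?_⟩
  ext t
  have h := congrArg (fun f : MulAut McL => f (φ t)) hs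
  simp only [MulAut.conj_apply] at h
  have h1 : φ (α t) = s * φ t * s⁻¹ := by
    rw [← h]
    show φ (α t) = φ (α (φ.symm (φ t)))
    rw [MulEquiv.symm_apply_apply]
  apply φ.injective
  rw [h1, MulAut.conj_apply, map_mul, map_mul, map_inv, MulEquiv.apply_symm_apply]

theorem transfer {φ : T ≃* McL} {α : MulAut T} {y y' : McL}
    (h : IsConj ((φ.symm.trans (α.trans φ) : MulAut McL) y) y') : IsConj (α (φ.symm y)) (φ.symm y') := by
  obtain ⟨c, hc⟩ := isConj_iff.1 h
  refine isConj_iff.2 ⟨φ.symm c, ?_⟩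
  rw [← hc]
  show _ = φ.symm (c * φ (α (φ.symm y)) * c⁻¹)
  rw [map_mul, map_mul, map_inv, MulEquiv.symm_apply_apply]

theorem order_symm (φ : T ≃* McL) (y : McL) : orderOf (φ.symm y) = orderOf y :=
  orderOf_injective φ.symm.toMonoidHom φ.symm.injective y

theorem inv_of_iso (h : Spor.IsoMcL T) {n : ℕ} (hn : n = 7 ∨ n = 9 ∨ n = 14 ∨ n = 15 ∨ n = 30) :
    ∃ y : T, orderOf y = n ∧ ∀ α : MulAut T, (¬ ∃ s, α = MulAut.conj s) → IsConj (α y) y⁻¹ := by
  obtain ⟨φ⟩ := h
  obtain ⟨y, hy, hc⟩ := inv_of hn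
  refine ⟨φ.symm y, by rw [order_symm, hy], fun α hα => ?_⟩
  rw [← map_inv]
  exact transfer (hc _ (not_inner hα))

theorem eleven_iso (h : Spor.IsoMcL T) :
    ∃ y : T, orderOf y = 11 ∧ ∀ α : MulAut T, (¬ ∃ s, α = MulAut.conj s) → IsConj (α y) y := by
  obtain ⟨φ⟩ := h
  obtain ⟨y, hy, hc⟩ := eleven
  exact ⟨φ.symm y, by rw [order_symm, hy], fun α hα => transfer (hc _ (not_inner hα))⟩

end abs

end Cfsg.Agent.H41.McLTwo
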