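import Cfsg.Agent.H41.McLTwo.RegTwo
import Mathlib.GroupTheory.SchurZassenhaus
import Mathlib.GroupTheory.SpecificGroups.Cyclic
import Mathlib.GroupTheory.PGroup
import Mathlib.Tactic

/-!
# The local count for `McL` and `McL.2`, `p = 5` (helper41)

`T` normal in `H`, `P` a TI Sylow 5-subgroup of order 125 with two types of elements of order 5 (750 and 25 elements of `T` in the
centralizer).
-/

set_option autoImplicit false

namespace Cfsg.Agent.H41.McLTwo

open Subgroup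

universe u

/-- class number of a group with an abelian subgroup of index 2 -/
theorem card_abelian_two {K : Type u} [Group K] [Finite K] (Y : Subgroup K) (hY : Y.index = 2)
    (hc : ∀ a ∈ Y, ∀ b ∈ Y, a * b = b * a) {g : K} (hg : g ∉ Y) {c : ℕ}
    (hcard : Nat.card {y : Y // g * (y : K) = y * g} = c) : 2 * Nat.card (ConjClasses K) = 3 * c + Nat.card Y := by
  haveI := normal_of_index_eq_two hY
  have h1 := all_two (N := Y) hY
  have hinj : Function.Injective (ConjClasses.mk : Y → ConjClasses Y) := by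
    intro a b hab
    obtain ⟨x, hx⟩ := isConj_iff.1 (ConjClasses.mk_eq_mk_iff_isConj.1 hab)
    rw [← hx]
    refine Subtype.ext ?_
    rw [Subgroup.coe_mul, Subgroup.coe_mul, Subgroup.coe_inv, hc _ x.2 _ a.2, mul_inv_cancel_right]
  have e : Y ≃ ConjClasses Y := Equiv.ofBijective _ ⟨hinj, ConjClasses.mk_surjective⟩
  have hInv : ∀ y : Y, InvC Y (ConjClasses.mk y) ↔ g * (y : K) = y * g := by
    intro y
    rw [invC_iff hY]
    constructor
    · rintro ⟨x, hx, hxy⟩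
      have h2 : x * g⁻¹ ∈ Y := by
        rw [mul_mem_iff_of_index_two hY]
        exact ⟨fun h => absurd h hx, fun h => absurd (inv_mem_iff.1 h) hg⟩
      have h3 := hc _ h2 _ y.2
      have h4 : x * (y : K) = y * x := hxy
      have h5 : g = (x * g⁻¹)⁻¹ * x := by group
      have h6 : (x * g⁻¹)⁻¹ * (y : K) = y * (x * g⁻¹)⁻¹ := hc _ (inv_mem h2) _ y.2
      calc g * (y : K) = (x * g⁻¹)⁻¹ * (x * y) := by rw [← mul_assoc, ← h5]
        _ = ((x * g⁻¹)⁻¹ * y) * x := by rw [h4, mul_assoc]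
        _ = y * ((x * g⁻¹)⁻¹ * x) := by rw [h6, mul_assoc]
        _ = y * g := by rw [← h5]
    · intro h
      exact ⟨g, hg, h⟩
  have h2 : Nat.card {c : ConjClasses Y // InvC Y c} = c := by
    rw [← hcard]
    refine (Nat.card_congr (Equiv.subtypeEquiv (Equiv.ofBijective _ ⟨hinj, ConjClasses.mk_surjective⟩) fun y => ?_)).symm
    exact (hInv y).symm
  have h3 := card_split (α := ConjClasses Y) (fun _ => True) (fun c => InvC Y c)
  have h4 : Nat.card {c : ConjClasses Y // True} = Nat.card Y := by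
    rw [Nat.card_congr (Equiv.subtypeUnivEquiv fun _ => trivial)]
    exact (Nat.card_congr e).symm
  have h5 : Nat.card {c : ConjClasses Y // True ∧ InvC Y c} = c := by
    rw [← h2]
    exact Nat.card_congr (Equiv.subtypeEquivRight fun c => ⟨fun h => h.2, fun h => ⟨trivial, h⟩⟩)
  have h6 : Nat.card {c : ConjClasses Y // True ∧ ¬ InvC Y c} = Nat.card {c : ConjClasses Y // ¬ InvC Y c} :=
    Nat.card_congr (Equiv.subtypeEquivRight fun c => ⟨fun h => h.2, fun h => ⟨trivial, h⟩⟩)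
  rw [h4, h5, h6] at h3
  rw [h2] at h1
  omega

section Dat

variable {H : Type u} [Group H]

/-- number of elements of `T` commuting with `x` -/
noncomputable def cT (T : Subgroup H) (x : H) : ℕ := Nat.card (T ⊓ centralizer ({x} : Set H) : Subgroup H)

/-- the local situation -/
structure Dat (T P : Subgroup H) : Prop where
  Tn : T.Normal
  PT : P ≤ T
  Pc : Nat.card P = 125
  Pidx : ¬ 5 ∣ P.index
  P5 : ∀ x ∈ P, x ^ 5 = 1
  five : ∀ x ∈ T, x ^ 5 = 1 → x ≠ 1 → cT T x = 750 ∨ cT T x = 25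
  conj : ∀ x ∈ T, ∀ y ∈ T, x ^ 5 = 1 → y ^ 5 = 1 → x ≠ 1 → y ≠ 1 → cT T x = cT T y → ∃ t ∈ T, t * x * t⁻¹ = y
  exA : ∃ x ∈ P, x ≠ 1 ∧ cT T x = 750
  exB : ∃ x ∈ P, x ≠ 1 ∧ cT T x = 25
  ti : ∀ g : H, ∀ y ∈ P, y ≠ 1 → g * y * g⁻¹ ∈ P → g ∈ normalizer (P : Set H)
  no24 : ∀ x ∈ T, orderOf x ≠ 24

namespace Dat

variable {T P : Subgroup H} (D : Dat T P)
include D

theorem comm_mem {g y : H} (hy : y ∈ P) (hy1 : y ≠ 1) (hg : g * y = y * g) : g ∈ normalizer (P : Set H) :=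
  D.ti g y hy hy1 (by rw [hg, mul_inv_cancel_right]; exact hy)

/-- invariance -/
theorem cT_conj (m x : H) : cT T (m * x * m⁻¹) = cT T x := by
  have k1 : ∀ c ∈ T ⊓ centralizer ({x} : Set H), m * c * m⁻¹ ∈ T ⊓ centralizer ({m * x * m⁻¹} : Set H) := by
    intro c hc
    rw [mem_inf, mem_centralizer_singleton_iff] at hc ⊢
    refine ⟨D.Tn.conj_mem _ hc.1 m, ?_⟩
    calc m * c * m⁻¹ * (m * x * m⁻¹) = m * (c * x) * m⁻¹ := by group
      _ = m * (x * c) * m⁻¹ := by rw [hc.2]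
      _ = m * x * m⁻¹ * (m * c * m⁻¹) := by group
  have k2 : ∀ c ∈ T ⊓ centralizer ({m * x * m⁻¹} : Set H), m⁻¹ * c * m ∈ T ⊓ centralizer ({x} : Set H) := by
    intro c hc
    rw [mem_inf, mem_centralizer_singleton_iff] at hc ⊢
    refine ⟨?_, ?_⟩
    · have h1 := D.Tn.conj_mem _ hc.1 m⁻¹
      rwa [inv_inv] at h1
    · calc m⁻¹ * c * m * x = m⁻¹ * (c * (m * x * m⁻¹)) * m := by group
        _ = m⁻¹ * (m * x * m⁻¹ * c) * m := by rw [hc.2]
        _ = x * (m⁻¹ * c * m) := by group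
  unfold cT
  exact (Nat.card_congr
    { toFun := fun c : (T ⊓ centralizer ({x} : Set H) : Subgroup H) => ⟨m * (c : H) * m⁻¹, k1 c c.2⟩
      invFun := fun c : (T ⊓ centralizer ({m * x * m⁻¹} : Set H) : Subgroup H) => ⟨m⁻¹ * (c : H) * m, k2 c c.2⟩
      left_inv := fun c => Subtype.ext (by show m⁻¹ * (m * (c : H) * m⁻¹) * m = c; group)
      right_inv := fun c => Subtype.ext (by show m * (m⁻¹ * (c : H) * m) * m⁻¹ = c; group) }).symm

/-- the number of elements of one type -/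
theorem count [Finite H] {x : H} (hx : x ∈ P) (hx1 : x ≠ 1) :
    Nat.card {y : P // (y : H) ≠ 1 ∧ cT T (y : H) = cT T x} * cT T x =
      Nat.card (T ⊓ normalizer (P : Set H) : Subgroup H) := by
  have hch : ∀ y : {y : P // (y : H) ≠ 1 ∧ cT T (y : H) = cT T x}, ∃ n : H, n ∈ T ∧ n * x * n⁻¹ = (y.1 : H) := by
    intro y
    obtain ⟨t, ht, h⟩ := D.conj x (D.PT hx) y.1 (D.PT y.1.2) (D.P5 x hx) (D.P5 _ y.1.2) hx1 y.2.1 y.2.2.symm
    exact ⟨t, ht, h⟩
  choose n hnT hn using hch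
  have hnN : ∀ y, n y ∈ normalizer (P : Set H) := fun y => D.ti _ x hx hx1 (by rw [hn y]; exact y.1.2)
  have hprod : Nat.card {y : P // (y : H) ≠ 1 ∧ cT T (y : H) = cT T x} * cT T x =
      Nat.card ({y : P // (y : H) ≠ 1 ∧ cT T (y : H) = cT T x} × (T ⊓ centralizer ({x} : Set H) : Subgroup H)) := by
    rw [Nat.card_prod]
    rfl
  rw [hprod]
  refine Nat.card_congr (Equiv.ofBijective (fun q : {y : P // (y : H) ≠ 1 ∧ cT T (y : H) = cT T x} ×
    (T ⊓ centralizer ({x} : Set H) : Subgroup H) =>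
      (⟨n q.1 * q.2, mem_inf.2 ⟨mul_mem (hnT _) q.2.2.1, mul_mem (hnN _)
        (D.comm_mem hx hx1 (mem_centralizer_singleton_iff.1 q.2.2.2))⟩⟩ : (T ⊓ normalizer (P : Set H) : Subgroup H)))
      ⟨?_, ?_⟩)
  · rintro ⟨y, c⟩ ⟨y', c'⟩ h
    have h1 : n y * (c : H) = n y' * c' := congrArg Subtype.val h
    have hc : (c : H) * x * (c : H)⁻¹ = x := by
      rw [mem_centralizer_singleton_iff.1 c.2.2, mul_inv_cancel_right]
    have hc' : (c' : H) * x * (c' : H)⁻¹ = x := by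
      rw [mem_centralizer_singleton_iff.1 c'.2.2, mul_inv_cancel_right]
    have h2 : (n y * c) * x * (n y * c)⁻¹ = (y.1 : H) := by
      have : (n y * c) * x * (n y * c)⁻¹ = n y * (c * x * (c : H)⁻¹) * (n y)⁻¹ := by group
      rw [this, hc]
      exact hn y
    have h3 : (n y' * c') * x * (n y' * c')⁻¹ = (y'.1 : H) := by
      have : (n y' * c') * x * (n y' * c')⁻¹ = n y' * (c' * x * (c' : H)⁻¹) * (n y')⁻¹ := by group
      rw [this, hc']
      exact hn y'
    rw [h1, h3] at h2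
    have h4 : y = y' := Subtype.ext (Subtype.ext h2.symm)
    subst h4
    exact Prod.ext rfl (Subtype.ext (mul_left_cancel h1))
  · rintro ⟨m, hm⟩
    obtain ⟨hmT, hmN⟩ := mem_inf.1 hm
    have hmx : m * x * m⁻¹ ∈ P := (mem_normalizer_iff.1 hmN x).1 hx
    have hne : m * x * m⁻¹ ≠ 1 := fun h => hx1 (conj_eq_one_iff.1 h)
    have hcT : cT T (m * x * m⁻¹) = cT T x := D.cT_conj m x
    set y : {y : P // (y : H) ≠ 1 ∧ cT T (y : H) = cT T x} := ⟨⟨m * x * m⁻¹, hmx⟩, hne, hcT⟩ with hy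
    have h1 : n y * x * (n y)⁻¹ = m * x * m⁻¹ := hn y
    refine ⟨(y, ⟨(n y)⁻¹ * m, mem_inf.2 ⟨mul_mem (inv_mem (hnT y)) hmT, ?_⟩⟩), Subtype.ext ?_⟩
    · rw [mem_centralizer_singleton_iff]
      calc (n y)⁻¹ * m * x = (n y)⁻¹ * (m * x * m⁻¹) * m := by group
        _ = (n y)⁻¹ * (n y * x * (n y)⁻¹) * m := by rw [h1]
        _ = x * ((n y)⁻¹ * m) := by group
    · show n y * ((n y)⁻¹ * m) = m
      rw [mul_inv_cancel_left]

theorem card_ne_one : Nat.card {y : P // (y : H) ≠ 1} = 124 := by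
  classical
  have hfin : Finite P := Nat.finite_of_card_ne_zero (by rw [D.Pc]; norm_num)
  have h1 := card_split (α := P) (fun _ => True) (fun y => (y : H) = 1)
  have h2 : Nat.card {y : P // True} = 125 := by
    rw [Nat.card_congr (Equiv.subtypeUnivEquiv fun _ => trivial), D.Pc]
  have h3 : Nat.card {y : P // True ∧ (y : H) = 1} = 1 := by
    rw [Nat.card_eq_one_iff_unique]
    refine ⟨⟨fun a b => Subtype.ext (Subtype.ext (a.2.2.trans b.2.2.symm))⟩, ⟨⟨1, trivial, rfl⟩⟩⟩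
  have h4 : Nat.card {y : P // True ∧ ¬ (y : H) = 1} = Nat.card {y : P // (y : H) ≠ 1} :=
    Nat.card_congr (Equiv.subtypeEquivRight fun y => ⟨fun h => h.2, fun h => ⟨trivial, h⟩⟩)
  rw [h2, h3, h4] at h1
  omega

/-- the number of elements of the two types and the order of the normalizer -/
theorem numbers [Finite H] : Nat.card {y : P // (y : H) ≠ 1 ∧ cT T (y : H) = 750} = 4 ∧
    Nat.card (T ⊓ normalizer (P : Set H) : Subgroup H) = 3000 := by
  classical
  obtain ⟨a, ha, ha1, haT⟩ := D.exA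
  obtain ⟨b, hb, hb1, hbT⟩ := D.exB
  have e1 := D.count ha ha1
  have e2 := D.count hb hb1
  rw [haT] at e1
  rw [hbT] at e2
  have e3 := card_split (α := P) (fun y => (y : H) ≠ 1) (fun y => cT T (y : H) = 750)
  have e4 : Nat.card {y : P // (y : H) ≠ 1 ∧ ¬ cT T (y : H) = 750} = Nat.card {y : P // (y : H) ≠ 1 ∧ cT T (y : H) = 25} := by
    refine Nat.card_congr (Equiv.subtypeEquivRight fun y => and_congr_right fun hy => ?_)
    constructor
    · intro h
      exact (D.five y (D.PT y.2) (D.P5 _ y.2) hy).resolve_left h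
    · intro h
      rw [h]
      norm_num
  rw [D.card_ne_one, e4] at e3
  omega

end Dat

theorem pow_mod {H : Type u} [Group H] {u : H} (h5 : u ^ 5 = 1) (i : ℕ) : u ^ i = u ^ (i % 5) := by
  conv_lhs => rw [← Nat.div_add_mod i 5, pow_add, pow_mul, h5, one_pow, one_mul]

theorem pw5 {H : Type u} [Group H] {u : H} (h5 : u ^ 5 = 1) {i : ℕ} (h : u ^ i ≠ 1) : ∃ j : ℕ, (u ^ i) ^ j = u := by
  have h1 : i % 5 = 0 ∨ i % 5 = 1 ∨ i % 5 = 2 ∨ i % 5 = 3 ∨ i % 5 = 4 := by omega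
  rw [pow_mod h5] at h ⊢
  rcases h1 with h1 | h1 | h1 | h1 | h1 <;> rw [h1] at h ⊢
  · exact absurd (pow_zero u) h
  · exact ⟨1, by simp⟩
  · exact ⟨3, by rw [← pow_mul, pow_mod h5]; simp⟩
  · exact ⟨2, by rw [← pow_mul, pow_mod h5]; simp⟩
  · exact ⟨4, by rw [← pow_mul, pow_mod h5]; simp⟩

theorem mem_zp {H : Type u} [Group H] {u y : H} (h5 : u ^ 5 = 1) : y ∈ zpowers u ↔ ∃ i : ℕ, u ^ i = y := by
  classical
  constructor
  · intro h
    have hf : IsOfFinOrder u := isOfFinOrder_iff_pow_eq_one.2 ⟨5, by norm_num, h5⟩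
    obtain ⟨i, hi⟩ := (hf.mem_zpowers_iff_mem_range_orderOf (y := y)).1 h |> Finset.mem_image.1
    exact ⟨i, hi.2⟩
  · rintro ⟨i, rfl⟩
    exact npow_mem_zpowers u i

/-- a chosen central element -/
structure Cen (T P : Subgroup H) (u : H) : Prop extends Dat T P where
  uP : u ∈ P
  u1 : u ≠ 1
  u7 : cT T u = 750

namespace Cen

variable {T P : Subgroup H} {u : H} (D : Cen T P u)
include D

theorem u5 : u ^ 5 = 1 := D.P5 u D.uP

theorem ord_u : orderOf u = 5 := orderOf_eq_prime (hp := ⟨Nat.prime_five⟩) D.u5 D.u1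

theorem comm_iff {y k : H} (hy : y ∈ zpowers u) (hy1 : y ≠ 1) : k * y = y * k ↔ k * u = u * k := by
  obtain ⟨i, rfl⟩ := (mem_zp D.u5).1 hy
  constructor
  · intro h
    obtain ⟨j, hj⟩ := pw5 D.u5 hy1
    have h1 : Commute k ((u ^ i) ^ j) := Commute.pow_right h j
    rw [hj] at h1
    exact h1
  · intro h
    exact (Commute.pow_right (show Commute k u from h) i).eq

theorem cT_pow {y : H} (hy : y ∈ zpowers u) (hy1 : y ≠ 1) : cT T y = 750 := by
  rw [← D.u7]
  unfold cT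
  have h : centralizer ({y} : Set H) = centralizer ({u} : Set H) := by
    ext k
    rw [mem_centralizer_singleton_iff, mem_centralizer_singleton_iff]
    exact D.comm_iff hy hy1
  rw [h]

theorem zP : zpowers u ≤ P := by
  rw [zpowers_le]
  exact D.uP

/-- the elements with 750 -/
theorem mem_of_seven [Finite H] {y : H} (hy : y ∈ P) (hy1 : y ≠ 1) (h : cT T y = 750) : y ∈ zpowers u := by
  classical
  have h1 : Nat.card {y : zpowers u // (y : H) ≠ 1} = 4 := by
    have h1 := card_split (α := zpowers u) (fun _ => True) (fun y => (y : H) = 1)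
    have h2 : Nat.card {y : zpowers u // True} = 5 := by
      rw [Nat.card_congr (Equiv.subtypeUnivEquiv fun _ => trivial), Nat.card_zpowers, D.ord_u]
    have h3 : Nat.card {y : zpowers u // True ∧ (y : H) = 1} = 1 := by
      rw [Nat.card_eq_one_iff_unique]
      refine ⟨⟨fun a b => Subtype.ext (Subtype.ext (a.2.2.trans b.2.2.symm))⟩, ⟨⟨1, trivial, rfl⟩⟩⟩
    have h4 : Nat.card {y : zpowers u // True ∧ ¬ (y : H) = 1} = Nat.card {y : zpowers u // (y : H) ≠ 1} :=
      Nat.card_congr (Equiv.subtypeEquivRight fun y => ⟨fun h => h.2, fun h => ⟨trivial, h⟩⟩)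
    rw [h2, h3, h4] at h1
    omega
  let f : {y : zpowers u // (y : H) ≠ 1} → {y : P // (y : H) ≠ 1 ∧ cT T (y : H) = 750} :=
    fun y => ⟨⟨y.1, D.zP y.1.2⟩, y.2, D.cT_pow y.1.2 y.2⟩
  have hf : Function.Injective f := by
    intro a b hab
    have : ((f a).1 : H) = (f b).1 := by rw [hab]
    exact Subtype.ext (Subtype.ext this)
  have hb : Function.Bijective f := (Nat.bijective_iff_injective_and_card f).2 ⟨hf, by rw [h1, D.toDat.numbers.1]⟩
  obtain ⟨w, hw⟩ := hb.2 ⟨⟨y, hy⟩, hy1, h⟩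
  have h2 : (w.1 : H) = y := congrArg (fun q : {y : P // (y : H) ≠ 1 ∧ cT T (y : H) = 750} => (q.1 : H)) hw
  rw [← h2]
  exact w.1.2

/-- `u` is central in `P` -/
theorem central [Finite H] {v : H} (hv : v ∈ P) : v * u = u * v := by
  have hfin : Finite P := Nat.finite_of_card_ne_zero (by rw [D.Pc]; norm_num)
  have hp : IsPGroup 5 P := IsPGroup.of_card (n := 3) (by rw [D.Pc]; norm_num)
  have hnt : Nontrivial P := ⟨⟨⟨u, D.uP⟩, 1, fun h => D.u1 (congrArg Subtype.val h)⟩⟩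
  haveI : Fact (Nat.Prime 5) := ⟨Nat.prime_five⟩
  have h1 := hp.center_nontrivial
  obtain ⟨z, hz⟩ := exists_ne (1 : center P)
  have hz1 : ((z : P) : H) ≠ 1 := fun h => hz (Subtype.ext (Subtype.ext h))
  have hcz : ∀ w ∈ P, w * ((z : P) : H) = (z : P) * w := fun w hw =>
    congrArg Subtype.val (mem_center_iff.1 z.2 ⟨w, hw⟩)
  have h7 : cT T ((z : P) : H) = 750 := by
    refine (D.five _ (D.PT z.1.2) (D.P5 _ z.1.2) hz1).resolve_right fun h => ?_
    have hle : P ≤ T ⊓ centralizer ({((z : P) : H)} : Set H) := fun w hw =>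
      mem_inf.2 ⟨D.PT hw, mem_centralizer_singleton_iff.2 (hcz w hw)⟩
    have h2 := Subgroup.card_le_of_le hle
    rw [D.Pc] at h2
    unfold cT at h
    rw [h] at h2
    norm_num at h2
  exact (D.comm_iff (D.mem_of_seven z.1.2 hz1 h7) hz1).1 (hcz v hv)

/-- elements outside `<u>` -/
theorem cT_out [Finite H] {v : H} (hv : v ∈ P) (hvu : v ∉ zpowers u) : cT T v = 25 := by
  have hv1 : v ≠ 1 := fun h => hvu (h ▸ one_mem _)
  exact (D.five v (D.PT hv) (D.P5 v hv) hv1).resolve_left fun h => hvu (D.mem_of_seven hv hv1 h)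

theorem exists_out [Finite H] : ∃ v ∈ P, v ∉ zpowers u := by
  obtain ⟨v, hv, hv1, h⟩ := D.exB
  refine ⟨v, hv, fun h' => ?_⟩
  rw [D.cT_pow h' hv1] at h
  norm_num at h

/-- `P` is not abelian -/
theorem nonabelian [Finite H] {v : H} (hv : v ∈ P) (hvu : v ∉ zpowers u) : ∃ w ∈ P, w * v ≠ v * w := by
  by_contra hcon
  push Not at hcon
  have hle : P ≤ T ⊓ centralizer ({v} : Set H) := fun w hw =>
    mem_inf.2 ⟨D.PT hw, mem_centralizer_singleton_iff.2 (hcon w hw)⟩
  have h2 := Subgroup.card_le_of_le hle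
  have h := D.cT_out hv hvu
  unfold cT at h
  rw [D.Pc, h] at h2
  norm_num at h2

theorem central_pow [Finite H] {v y : H} (hv : v ∈ P) (hy : y ∈ zpowers u) : v * y = y * v := by
  obtain ⟨i, rfl⟩ := (mem_zp D.u5).1 hy
  exact (Commute.pow_right (show Commute v u from D.central hv) i).eq

/-- `P / <u>` is abelian -/
theorem comm_mod [Finite H] {v w : H} (hv : v ∈ P) (hw : w ∈ P) : v * w * v⁻¹ * w⁻¹ ∈ zpowers u := by
  haveI hn : ((zpowers u).subgroupOf P).Normal := by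
    refine ⟨fun y hy g => ?_⟩
    rw [mem_subgroupOf] at hy ⊢
    have h1 : ((g * y * g⁻¹ : P) : H) = y := by
      rw [Subgroup.coe_mul, Subgroup.coe_mul, Subgroup.coe_inv, D.central_pow g.2 hy, mul_inv_cancel_right]
    rw [h1]
    exact hy
  haveI : Fact (Nat.Prime 5) := ⟨Nat.prime_five⟩
  have hc : Nat.card (P ⧸ (zpowers u).subgroupOf P) = 5 ^ 2 := by
    have h1 := Subgroup.card_eq_card_quotient_mul_card_subgroup ((zpowers u).subgroupOf P)
    rw [D.Pc, Nat.card_congr (Subgroup.subgroupOfEquivOfLe D.zP).toEquiv, Nat.card_zpowers, D.ord_u] at h1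
    omega
  have h2 := IsPGroup.commutative_of_card_eq_prime_sq hc
    (QuotientGroup.mk ⟨v, hv⟩) (QuotientGroup.mk ⟨w, hw⟩)
  rw [← QuotientGroup.mk_mul, ← QuotientGroup.mk_mul, QuotientGroup.eq, mem_subgroupOf] at h2
  have h3 : ((((⟨v, hv⟩ : P) * ⟨w, hw⟩)⁻¹ * (⟨w, hw⟩ * ⟨v, hv⟩) : P) : H) = (v * w)⁻¹ * (w * v) := rfl
  rw [h3] at h2
  -- conjugate: the commutator is central
  have h4 : v * w * v⁻¹ * w⁻¹ = (v * w) * ((v * w)⁻¹ * (w * v))⁻¹ * (v * w)⁻¹ := by group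
  rw [h4, D.central_pow (mul_mem hv hw) (inv_mem h2), mul_inv_cancel_right]
  exact inv_mem h2

end Cen

end Dat

end Cfsg.Agent.H41.McLTwo
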