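import Cfsg.Agent.H41.McLTwo.LocA

/-!
# The local count for `McL` and `McL.2`, part B : the complement (helper41)
-/

set_option autoImplicit false

namespace Cfsg.Agent.H41.McLTwo

open Subgroup

universe u

variable {H : Type u} [Group H]

/-- a complement of `P` in its normalizer -/
structure Cpl (T P K : Subgroup H) (u : H) : Prop extends Cen T P u where
  KN : K ≤ normalizer (P : Set H)
  dec : ∀ m ∈ normalizer (P : Set H), ∃ p ∈ P, ∃ k ∈ K, m = p * k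
  KP : ∀ k ∈ K, k ∈ P → k = 1
  K5 : Nat.Coprime (Nat.card K) 5

/-- trivial modulo `<u>` -/
def Tr (P : Subgroup H) (u k : H) : Prop := ∀ v ∈ P, ∃ c ∈ zpowers u, k * v * k⁻¹ = v * c

/-- inversion modulo `<u>` -/
def Iv (P : Subgroup H) (u k : H) : Prop := ∀ v ∈ P, ∃ c ∈ zpowers u, k * v * k⁻¹ = v⁻¹ * c

namespace Cpl

variable {T P K : Subgroup H} {u : H} (D : Cpl T P K u)
include D

theorem PN : P ≤ normalizer (P : Set H) := le_normalizer

/-- complement of a subgroup between -/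
theorem card_sub [Finite H] {M : Subgroup H} (hPM : P ≤ M) (hMN : M ≤ normalizer (P : Set H)) :
    Nat.card M = 125 * Nat.card (K ⊓ M : Subgroup H) := by
  rw [← D.Pc, ← Nat.card_prod]
  symm
  refine Nat.card_congr (Equiv.ofBijective (fun q : P × (K ⊓ M : Subgroup H) =>
    (⟨q.1 * q.2, mul_mem (hPM q.1.2) (mem_inf.1 q.2.2).2⟩ : M)) ⟨?_, ?_⟩)
  · rintro ⟨p, k⟩ ⟨p', k'⟩ h
    have h1 : (p : H) * k = p' * k' := congrArg Subtype.val h
    have h2 : (k : H) * (k' : H)⁻¹ = (p : H)⁻¹ * p' := by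
      rw [eq_inv_mul_iff_mul_eq, ← mul_assoc, h1, mul_inv_cancel_right]
    have h3 : (k : H) * (k' : H)⁻¹ = 1 :=
      D.KP _ (mul_mem (mem_inf.1 k.2).1 (inv_mem (mem_inf.1 k'.2).1)) (h2 ▸ mul_mem (inv_mem p.2) p'.2)
    have h4 : (k : H) = k' := mul_inv_eq_one.1 h3
    rw [h4] at h1
    exact Prod.ext (Subtype.ext (mul_right_cancel h1)) (Subtype.ext h4)
  · rintro ⟨m, hm⟩
    obtain ⟨p, hp, k, hk, rfl⟩ := D.dec m (hMN hm)
    exact ⟨(⟨p, hp⟩, ⟨k, mem_inf.2 ⟨hk, (Subgroup.mul_mem_cancel_left M (hPM hp)).1 hm⟩⟩), rfl⟩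

theorem card_K0 [Finite H] : Nat.card (K ⊓ T : Subgroup H) = 24 := by
  have h1 := D.card_sub (M := T ⊓ normalizer (P : Set H)) (le_inf D.PT D.PN) inf_le_right
  rw [D.toDat.numbers.2] at h1
  have h2 : K ⊓ (T ⊓ normalizer (P : Set H)) = K ⊓ T := by
    rw [← inf_assoc]
    exact inf_eq_left.2 (inf_le_left.trans D.KN)
  rw [h2] at h1
  omega

theorem card_K6 [Finite H] : Nat.card (K ⊓ (T ⊓ centralizer ({u} : Set H)) : Subgroup H) = 6 := by
  have h1 := D.card_sub (M := T ⊓ centralizer ({u} : Set H))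
    (fun v hv => mem_inf.2 ⟨D.PT hv, mem_centralizer_singleton_iff.2 (D.central hv)⟩)
    (fun k hk => D.comm_mem D.uP D.u1 (mem_centralizer_singleton_iff.1 (mem_inf.1 hk).2))
  have h2 : Nat.card (T ⊓ centralizer ({u} : Set H) : Subgroup H) = 750 := D.u7
  rw [h2] at h1
  omega

theorem ord5 [Finite H] {k : H} (hk : k ∈ K) : Nat.Coprime (orderOf k) 5 :=
  Nat.Coprime.coprime_dvd_left (Subgroup.orderOf_dvd_natCard K hk) D.K5

theorem conjP {k v : H} (hk : k ∈ K) (hv : v ∈ P) : k * v * k⁻¹ ∈ P := (mem_normalizer_iff.1 (D.KN hk) v).1 hv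

theorem conj_u [Finite H] {k : H} (hk : k ∈ K) : k * u * k⁻¹ ∈ zpowers u := by
  refine D.mem_of_seven (D.conjP hk D.uP) (fun h => D.u1 (conj_eq_one_iff.1 h)) ?_
  rw [D.cT_conj, D.u7]

theorem conj_c [Finite H] {k c : H} (hk : k ∈ K) (hc : c ∈ zpowers u) : k * c * k⁻¹ ∈ zpowers u := by
  obtain ⟨i, rfl⟩ := (mem_zp D.u5).1 hc
  rw [← conj_pow]
  exact pow_mem (D.conj_u hk) i

/-- coprime fixed points -/
theorem fixed [Finite H] {k v c : H} (hk : k ∈ K) (hv : v ∈ P) (hc : c ∈ zpowers u) (h : k * v * k⁻¹ = v * c) :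
    ∃ d ∈ zpowers u, k * (v * d) = (v * d) * k := by
  obtain ⟨i, rfl⟩ := (mem_zp D.u5).1 hc
  obtain ⟨a, ha⟩ := (mem_zp D.u5).1 (D.conj_u hk)
  by_cases ha1 : a % 5 = 1
  · -- `k` commutes with `u`
    have h1 : k * u * k⁻¹ = u := by rw [← ha, pow_mod D.u5, ha1, pow_one]
    have hku : Commute k u := by
      show k * u = u * k
      rw [← h1, inv_mul_cancel_right]
      rw [h1]
    have h2 : ∀ n : ℕ, k ^ n * v * (k ^ n)⁻¹ = v * u ^ (i * n) := by
      intro n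
      induction n with
      | zero => simp
      | succ n ih =>
        have e1 : k ^ (n + 1) * v * (k ^ (n + 1))⁻¹ = k * (k ^ n * v * (k ^ n)⁻¹) * k⁻¹ := by
          rw [pow_succ']; group
        have e2 : k * (v * u ^ (i * n)) * k⁻¹ = (k * v * k⁻¹) * u ^ (i * n) := by
          have e3 : u ^ (i * n) * k⁻¹ = k⁻¹ * u ^ (i * n) := (hku.inv_left.pow_right (i * n)).eq.symm
          rw [mul_assoc k, mul_assoc v, e3]
          group
        rw [e1, ih, e2, h, mul_assoc, ← pow_add]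
        have e4 : i + i * n = i * (n + 1) := by ring
        rw [e4]
    have h3 := h2 (orderOf k)
    rw [pow_orderOf_eq_one, one_mul, inv_one, mul_one] at h3
    have h4 : u ^ (i * orderOf k) = 1 := by
      have : v * u ^ (i * orderOf k) = v * 1 := by rw [← h3, mul_one]
      exact mul_left_cancel this
    have h5 : 5 ∣ i * orderOf k := by rw [← D.ord_u]; exact orderOf_dvd_of_pow_eq_one h4
    have h6 : 5 ∣ i := Nat.Coprime.dvd_of_dvd_mul_right (D.ord5 hk).symm h5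
    have h7 : u ^ i = 1 := by
      rw [pow_mod D.u5, Nat.mod_eq_zero_of_dvd h6, pow_zero]
    refine ⟨1, one_mem _, ?_⟩
    rw [h7, mul_one] at h
    rw [mul_one]
    exact mul_inv_eq_iff_eq_mul.1 h
  · have hdec : ∀ a < 5, ∀ i < 5, a ≠ 1 → ∃ j < 5, (i + a * j) % 5 = j := by decide
    obtain ⟨j, hj5, hj⟩ := hdec (a % 5) (Nat.mod_lt _ (by norm_num)) (i % 5) (Nat.mod_lt _ (by norm_num)) ha1
    refine ⟨u ^ j, npow_mem_zpowers u j, ?_⟩
    refine mul_inv_eq_iff_eq_mul.1 ?_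
    have e1 : k * (v * u ^ j) * k⁻¹ = (k * v * k⁻¹) * (k * u * k⁻¹) ^ j := by
      rw [conj_pow]; group
    rw [e1, h, ← ha, ← pow_mul, mul_assoc, ← pow_add]
    congr 1
    have e5 : (i + a * j) % 5 = j % 5 := by
      have e6 : (i % 5 + a % 5 * j) % 5 = (i + a * j) % 5 :=
        (Nat.ModEq.add (Nat.mod_modEq i 5) ((Nat.mod_modEq a 5).mul_right j))
      rw [← e6, hj]
      exact (Nat.mod_eq_of_lt hj5).symm
    rw [pow_mod D.u5, pow_mod D.u5 j, e5]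

/-- an element of `K ∩ T` commuting with an element outside `<u>` is trivial -/
theorem free1 [Finite H] {k v : H} (hk : k ∈ K) (hkT : k ∈ T) (hv : v ∈ P) (hvu : v ∉ zpowers u) (h : k * v = v * k) :
    k = 1 := by
  have h1 : k ∈ T ⊓ centralizer ({v} : Set H) := mem_inf.2 ⟨hkT, mem_centralizer_singleton_iff.2 h⟩
  have h2 := Subgroup.orderOf_dvd_natCard _ h1
  have h3 : Nat.card (T ⊓ centralizer ({v} : Set H) : Subgroup H) = 25 := D.cT_out hv hvu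
  rw [h3] at h2
  have h4 : Nat.Coprime (orderOf k) 25 := Nat.Coprime.pow_right 2 (D.ord5 hk)
  exact orderOf_eq_one_iff.1 (Nat.Coprime.eq_one_of_dvd h4 h2)

theorem free [Finite H] {k v c : H} (hk : k ∈ K) (hkT : k ∈ T) (hv : v ∈ P) (hvu : v ∉ zpowers u)
    (hc : c ∈ zpowers u) (h : k * v * k⁻¹ = v * c) : k = 1 := by
  obtain ⟨d, hd, h1⟩ := D.fixed hk hv hc h
  exact D.free1 hk hkT (mul_mem hv (D.zP hd)) (fun h2 => hvu ((Subgroup.mul_mem_cancel_right _ hd).1 h2)) h1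

theorem free_tr [Finite H] {k : H} (hk : k ∈ K) (hkT : k ∈ T) (h : Tr P u k) : k = 1 := by
  obtain ⟨v, hv, hvu⟩ := D.exists_out
  obtain ⟨c, hc, h1⟩ := h v hv
  exact D.free hk hkT hv hvu hc h1

/-- no fixed points: inversion -/
theorem iv_of [Finite H] {τ : H} (hτ : τ ∈ K) (h2 : τ * τ = 1)
    (hn : ∀ v ∈ P, v ∉ zpowers u → ∀ c ∈ zpowers u, τ * v * τ⁻¹ ≠ v * c) : Iv P u τ := by
  intro v hv
  have hinv : τ⁻¹ = τ := inv_eq_of_mul_eq_one_left h2
  set w := τ * v * τ⁻¹ with hw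
  have hwP : w ∈ P := D.conjP hτ hv
  have hτw : τ * w * τ⁻¹ = v := by
    rw [hw, hinv]
    calc τ * (τ * v * τ) * τ = (τ * τ) * v * (τ * τ) := by group
      _ = v := by rw [h2, one_mul, mul_one]
  have hx : τ * (v * w) * τ⁻¹ = (v * w) * ((v * w)⁻¹ * (w * v)) := by
    have : τ * (v * w) * τ⁻¹ = (τ * v * τ⁻¹) * (τ * w * τ⁻¹) := by group
    rw [this, hτw, ← hw]
    group
  have hc : (v * w)⁻¹ * (w * v) ∈ zpowers u := by
    have h3 := D.comm_mod (inv_mem hwP) (inv_mem hv)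
    have h4 : w⁻¹ * v⁻¹ * w⁻¹⁻¹ * v⁻¹⁻¹ = (v * w)⁻¹ * (w * v) := by group
    rwa [h4] at h3
  have hvw : v * w ∈ zpowers u := by
    by_contra hcon
    exact hn _ (mul_mem hv hwP) hcon _ hc hx
  refine ⟨v * w, hvw, ?_⟩
  show w = v⁻¹ * (v * w)
  rw [inv_mul_cancel_left]

/-- product of two inversions -/
theorem tr_of_iv [Finite H] {τ σ : H} (hτ : τ ∈ K) (h : Iv P u τ) (h' : Iv P u σ) : Tr P u (τ * σ) := by
  intro v hv
  obtain ⟨c, hc, h1⟩ := h v hv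
  obtain ⟨c', hc', h2⟩ := h' v hv
  have hc1 := D.central_pow hv (inv_mem hc)
  refine ⟨c⁻¹ * (τ * c' * τ⁻¹), mul_mem (inv_mem hc) (D.conj_c hτ hc'), ?_⟩
  have e1 : τ * σ * v * (τ * σ)⁻¹ = τ * (σ * v * σ⁻¹) * τ⁻¹ := by group
  have e2 : τ * (v⁻¹ * c') * τ⁻¹ = (τ * v * τ⁻¹)⁻¹ * (τ * c' * τ⁻¹) := by group
  rw [e1, h2, e2, h1, mul_inv_rev, inv_inv, ← mul_assoc v, hc1]

/-- involutions of `K ∩ T` invert -/
theorem iv_T [Finite H] {τ : H} (hτ : τ ∈ K) (hT : τ ∈ T) (h2 : τ * τ = 1) (h1 : τ ≠ 1) : Iv P u τ :=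
  D.iv_of hτ h2 fun v hv hvu c hc h => h1 (D.free hτ hT hv hvu hc h)

/-- the involution of `K ∩ T` is unique -/
theorem unique_inv [Finite H] {τ σ : H} (hτ : τ ∈ K) (hT : τ ∈ T) (h2 : τ * τ = 1) (h1 : τ ≠ 1)
    (hσ : σ ∈ K) (hT' : σ ∈ T) (h2' : σ * σ = 1) (h1' : σ ≠ 1) : τ = σ := by
  have h3 := D.free_tr (mul_mem hτ hσ) (mul_mem hT hT') (D.tr_of_iv hτ (D.iv_T hτ hT h2 h1) (D.iv_T hσ hT' h2' h1'))
  rw [← inv_eq_of_mul_eq_one_left h2', eq_inv_iff_mul_eq_one]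
  exact h3

end Cpl

end Cfsg.Agent.H41.McLTwo
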