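import Cfsg.Agent.H41.McLTwo.LocB

/-!
# The local count for `McL` and `McL.2`, part C : the structure of the complement (helper41)
-/

set_option autoImplicit false

namespace Cfsg.Agent.H41.McLTwo

open Subgroup

universe u

variable {H : Type u} [Group H]

theorem conj_iter {k u : H} {i : ℕ} (h : k * u * k⁻¹ = u ^ i) (n : ℕ) :
    k ^ n * u * (k ^ n)⁻¹ = u ^ (i ^ n) := by
  induction n with
  | zero => simp
  | succ n ih =>
    have e1 : k ^ (n + 1) * u * (k ^ (n + 1))⁻¹ = k ^ n * (k * u * k⁻¹) * (k ^ n)⁻¹ := by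
      rw [pow_succ]; group
    rw [e1, h, ← conj_pow, ih, ← pow_mul, pow_succ]

theorem pow_mod3 {u : H} (h5 : u ^ 3 = 1) (i : ℕ) : u ^ i = u ^ (i % 3) := by
  conv_lhs => rw [← Nat.div_add_mod i 3, pow_add, pow_mul, h5, one_pow, one_mul]

/-- the complement with its generators -/
structure Gns (T P K : Subgroup H) (u z w g : H) : Prop extends Cpl T P K u where
  zK : z ∈ K
  zT : z ∈ T
  z2 : z * z = 1
  z1 : z ≠ 1
  zu : z * u = u * z
  wK : w ∈ K
  wT : w ∈ T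
  w3 : w ^ 3 = 1
  w1 : w ≠ 1
  wu : w * u = u * w
  gK : g ∈ K
  gT : g ∈ T
  g8 : g ^ 8 = 1
  gu : g * u * g⁻¹ = u ^ 3

theorem Cpl.exists_gns {T P K : Subgroup H} {u : H} [Finite H] (D : Cpl T P K u) : ∃ z w g, Gns T P K u z w g := by
  classical
  have : Fact (Nat.Prime 2) := ⟨Nat.prime_two⟩
  have : Fact (Nat.Prime 3) := ⟨Nat.prime_three⟩
  have h6 := D.card_K6
  obtain ⟨z, hz⟩ := exists_prime_orderOf_dvd_card' (G := (K ⊓ (T ⊓ centralizer ({u} : Set H)) : Subgroup H)) 2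
    (by rw [h6]; norm_num)
  obtain ⟨w, hw⟩ := exists_prime_orderOf_dvd_card' (G := (K ⊓ (T ⊓ centralizer ({u} : Set H)) : Subgroup H)) 3
    (by rw [h6]; norm_num)
  obtain ⟨hzK, hzT, hzu⟩ := z.2
  obtain ⟨hwK, hwT, hwu⟩ := w.2
  have hu21 : u ^ 2 ≠ 1 := by
    intro h
    have h1 := orderOf_dvd_of_pow_eq_one h
    rw [D.ord_u] at h1
    norm_num at h1
  obtain ⟨t, htT, ht⟩ := D.conj u (D.PT D.uP) (u ^ 2) (D.PT (pow_mem D.uP 2)) D.u5 (D.P5 _ (pow_mem D.uP 2)) D.u1 hu21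
    (by rw [D.u7, D.cT_pow (npow_mem_zpowers u 2) hu21])
  have htN : t ∈ normalizer (P : Set H) := D.ti t u D.uP D.u1 (by rw [ht]; exact pow_mem D.uP 2)
  obtain ⟨p, hp, k, hk, hpk⟩ := D.dec t htN
  have hk' : k = p⁻¹ * t := by rw [hpk, inv_mul_cancel_left]
  have hkT : k ∈ T := by rw [hk']; exact mul_mem (inv_mem (D.PT hp)) htT
  have hku : k * u * k⁻¹ = u ^ 2 := by
    have e1 : k * u * k⁻¹ = p⁻¹ * (t * u * t⁻¹) * p := by rw [hk']; group
    have e2 := D.central_pow hp (npow_mem_zpowers u 2)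
    rw [e1, ht, mul_assoc, ← e2, inv_mul_cancel_left]
  have h24 : k ^ 24 = 1 := by
    have h1 := Subgroup.orderOf_dvd_natCard (K ⊓ T) (mem_inf.2 ⟨hk, hkT⟩)
    rw [D.card_K0] at h1
    exact orderOf_dvd_iff_pow_eq_one.1 h1
  refine ⟨z, w, k ^ 3, ?_⟩
  refine ⟨D, hzK, hzT, ?_, ?_, mem_centralizer_singleton_iff.1 hzu, hwK, hwT, ?_, ?_,
    mem_centralizer_singleton_iff.1 hwu, pow_mem hk 3, pow_mem hkT 3, ?_, ?_⟩
  · have h1 : z ^ 2 = 1 := by rw [← hz]; exact pow_orderOf_eq_one z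
    have h2 := congrArg Subtype.val h1
    rw [SubmonoidClass.coe_pow] at h2
    rw [← pow_two]
    exact h2
  · intro h
    have h1 : z = 1 := Subtype.ext h
    rw [h1, orderOf_one] at hz
    norm_num at hz
  · have h1 : w ^ 3 = 1 := by rw [← hw]; exact pow_orderOf_eq_one w
    have h2 := congrArg Subtype.val h1
    rw [SubmonoidClass.coe_pow] at h2
    exact h2
  · intro h
    have h1 : w = 1 := Subtype.ext h
    rw [h1, orderOf_one] at hw
    norm_num at hw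
  · rw [← pow_mul]
    exact h24
  · rw [conj_iter hku 3, pow_mod D.u5]
    rfl

namespace Gns

variable {T P K : Subgroup H} {u z w g : H} (D : Gns T P K u z w g)
include D

theorem ord_w : orderOf w = 3 := orderOf_eq_prime (hp := ⟨Nat.prime_three⟩) D.w3 D.w1

theorem g4 [Finite H] : g ^ 4 = z := by
  have h1 : g ^ 2 * u * (g ^ 2)⁻¹ = u ^ 4 := by
    rw [conj_iter D.gu 2, pow_mod D.u5]
    rfl
  have h2 : u ^ 4 ≠ u := by
    intro h
    have h3 : u ^ 3 = 1 := by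
      have : u ^ 3 * u = 1 * u := by rw [← pow_succ, h, one_mul]
      exact mul_right_cancel this
    have h4 := orderOf_dvd_of_pow_eq_one h3
    rw [D.ord_u] at h4
    norm_num at h4
  have h3 : g ^ 4 ≠ 1 := by
    intro h
    have h5 : g ^ 2 * g ^ 2 = 1 := by rw [← pow_add]; exact h
    have h6 : g ^ 2 ≠ 1 := by
      intro h6
      rw [h6, one_mul, inv_one, mul_one] at h1
      exact h2 h1.symm
    have h7 := D.unique_inv (pow_mem D.gK 2) (pow_mem D.gT 2) h5 h6 D.zK D.zT D.z2 D.z1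
    rw [h7, D.zu, mul_inv_cancel_right] at h1
    exact h2 h1.symm
  exact D.unique_inv (pow_mem D.gK 4) (pow_mem D.gT 4) (by rw [← pow_add]; exact D.g8) h3 D.zK D.zT D.z2 D.z1

theorem zc [Finite H] {k : H} (hk : k ∈ K) : k * z = z * k := by
  have h1 : k * z * k⁻¹ = z := by
    refine D.unique_inv (mul_mem (mul_mem hk D.zK) (inv_mem hk)) (D.Tn.conj_mem _ D.zT k) ?_ ?_ D.zK D.zT D.z2 D.z1
    · calc k * z * k⁻¹ * (k * z * k⁻¹) = k * (z * z) * k⁻¹ := by group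
        _ = 1 := by rw [D.z2, mul_one, mul_inv_cancel]
    · intro h
      exact D.z1 (conj_eq_one_iff.1 h)
  exact mul_inv_eq_iff_eq_mul.1 h1

theorem six [Finite H] {x : H} (hx : x ∈ K) (hT : x ∈ T) (hu : x * u = u * x) : ∃ a b : ℕ, x = w ^ a * z ^ b := by
  classical
  set L : Subgroup H := K ⊓ (T ⊓ centralizer ({u} : Set H)) with hL
  have h6 : Nat.card L = 6 := D.card_K6
  have hwL : w ∈ L := ⟨D.wK, D.wT, mem_centralizer_singleton_iff.2 D.wu⟩
  have hzL : z ∈ L := ⟨D.zK, D.zT, mem_centralizer_singleton_iff.2 D.zu⟩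
  have hxL : x ∈ L := ⟨hx, hT, mem_centralizer_singleton_iff.2 hu⟩
  have hord : orderOf (⟨w, hwL⟩ : L) = 3 := by
    rw [← Subgroup.orderOf_coe]
    exact D.ord_w
  have hidx : (zpowers (⟨w, hwL⟩ : L)).index = 2 := by
    have h1 := (zpowers (⟨w, hwL⟩ : L)).card_mul_index
    rw [Nat.card_zpowers, hord, h6] at h1
    omega
  have hpow : ∀ y : L, y ∈ zpowers (⟨w, hwL⟩ : L) → ∃ a : ℕ, (y : H) = w ^ a := by
    intro y hy
    rw [← mem_powers_iff_mem_zpowers] at hy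
    obtain ⟨a, ha⟩ := (Submonoid.mem_powers_iff _ _).1 hy
    refine ⟨a, ?_⟩
    rw [← ha, SubmonoidClass.coe_pow]
  have hz : (⟨z, hzL⟩ : L) ∉ zpowers (⟨w, hwL⟩ : L) := by
    intro h
    obtain ⟨a, ha⟩ := hpow _ h
    have h1 : z ^ 3 = 1 := by
      have h2 : (z : H) = w ^ a := ha
      rw [h2, ← pow_mul, mul_comm, pow_mul, D.w3, one_pow]
    have h2 : z ^ 3 = z := by
      rw [pow_succ, pow_two, D.z2, one_mul]
    exact D.z1 (h2.symm.trans h1)
  by_cases hxW : (⟨x, hxL⟩ : L) ∈ zpowers (⟨w, hwL⟩ : L)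
  · obtain ⟨a, ha⟩ := hpow _ hxW
    exact ⟨a, 0, by rw [pow_zero, mul_one]; exact ha⟩
  · have h1 : (⟨x, hxL⟩ : L) * ⟨z, hzL⟩ ∈ zpowers (⟨w, hwL⟩ : L) :=
      (mul_mem_iff_of_index_two hidx).2 ⟨fun h => absurd h hxW, fun h => absurd h hz⟩
    obtain ⟨a, ha⟩ := hpow _ h1
    refine ⟨a, 1, ?_⟩
    have h2 : x * z = w ^ a := ha
    rw [pow_one, ← h2, mul_assoc, D.z2, mul_one]

theorem z_pow (b : ℕ) : z ^ b = 1 ∨ z ^ b = z := by
  have h2 : z ^ 2 = 1 := by rw [pow_two]; exact D.z2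
  rcases Nat.even_or_odd b with ⟨c, hc⟩ | ⟨c, hc⟩
  · left
    rw [hc, ← two_mul, pow_mul, h2, one_pow]
  · right
    rw [hc, pow_succ, pow_mul, h2, one_pow, one_mul]

theorem w_comm {c : H} (hc : c ∈ zpowers u) : w * c = c * w := by
  obtain ⟨i, rfl⟩ := (mem_zp D.u5).1 hc
  exact (Commute.pow_right (show Commute w u from D.wu) i).eq

theorem w_ne : w ^ 2 ≠ w := by
  intro h
  have h1 : w * w = 1 * w := by rw [← pow_two, h, one_mul]
  exact D.w1 (mul_right_cancel h1)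

theorem conj_w [Finite H] {k : H} (hk : k ∈ K) : k * w * k⁻¹ = w ∨ k * w * k⁻¹ = w ^ 2 := by
  have h1 : k⁻¹ * u * k ∈ zpowers u := by
    have h := D.conj_u (inv_mem hk)
    rwa [inv_inv] at h
  have h2 := D.w_comm h1
  obtain ⟨a, b, hab⟩ := D.six (x := k * w * k⁻¹) (mul_mem (mul_mem hk D.wK) (inv_mem hk)) (D.Tn.conj_mem _ D.wT k) (by
    calc k * w * k⁻¹ * u = k * (w * (k⁻¹ * u * k)) * k⁻¹ := by group
      _ = k * (k⁻¹ * u * k * w) * k⁻¹ := by rw [h2]
      _ = u * (k * w * k⁻¹) := by group)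
  have hwz : Commute w z := D.zc D.wK
  have h3 : (w ^ a * z ^ b) ^ 3 = 1 := by
    rw [← hab, conj_pow, D.w3, mul_one, mul_inv_cancel]
  have h4 : (w ^ a * z ^ b) ^ 3 = (z ^ b) ^ 3 := by
    rw [(hwz.pow_pow a b).mul_pow, ← pow_mul, mul_comm a 3, pow_mul, D.w3, one_pow, one_mul]
  have h5 : z ^ b = 1 := by
    refine (D.z_pow b).resolve_right fun h => ?_
    rw [h4, h, pow_succ, pow_two, D.z2, one_mul] at h3
    exact D.z1 h3
  rw [h5, mul_one, pow_mod3 D.w3] at hab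
  have h6 : a % 3 = 0 ∨ a % 3 = 1 ∨ a % 3 = 2 := by omega
  rcases h6 with h6 | h6 | h6 <;> rw [h6] at hab
  · rw [pow_zero] at hab
    exact absurd (conj_eq_one_iff.1 hab) D.w1
  · left
    rw [hab, pow_one]
  · exact Or.inr hab

theorem gw [Finite H] : g * w * g⁻¹ = w ^ 2 := by
  refine (D.conj_w D.gK).resolve_left fun h => ?_
  have hc : Commute g w := mul_inv_eq_iff_eq_mul.1 h
  have h8 : orderOf g = 8 := by
    have : Fact (Nat.Prime 2) := ⟨Nat.prime_two⟩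
    refine orderOf_eq_prime_pow (p := 2) (n := 2) ?_ ?_
    · show ¬ g ^ 4 = 1
      rw [D.g4]
      exact D.z1
    · exact D.g8
  have h24 : orderOf (g * w) = 24 := by
    rw [hc.orderOf_mul_eq_mul_orderOf_of_coprime (by rw [h8, D.ord_w]; norm_num), h8, D.ord_w]
  exact D.no24 _ (mul_mem D.gT D.wT) h24

theorem gw_pow [Finite H] (n : ℕ) : g ^ n * w * (g ^ n)⁻¹ = w ^ (2 ^ n) := conj_iter D.gw n

/-- a power of `w` commuting with `g` is trivial -/
theorem wpow_one [Finite H] {a : ℕ} (h : g * w ^ a = w ^ a * g) : w ^ a = 1 := by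
  have h1 : g * w ^ a * g⁻¹ = w ^ a := by rw [h, mul_inv_cancel_right]
  rw [← conj_pow, D.gw, ← pow_mul, two_mul, pow_add] at h1
  have h2 : w ^ a * w ^ a = w ^ a * 1 := by rw [mul_one]; exact h1
  exact mul_left_cancel h2

theorem ord_wu : orderOf (w * u) = 15 := by
  have hc : Commute w u := D.wu
  rw [hc.orderOf_mul_eq_mul_orderOf_of_coprime (by rw [D.ord_w, D.ord_u]; norm_num), D.ord_w, D.ord_u]

/-- the exponent of an element -/
theorem exists_exp [Finite H] {k : H} (hk : k ∈ K) : ∃ i : ℕ, k * u * k⁻¹ = u ^ i ∧ i < 5 ∧ i ≠ 0 := by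
  obtain ⟨i, hi⟩ := (mem_zp D.u5).1 (D.conj_u hk)
  rw [pow_mod D.u5] at hi
  refine ⟨i % 5, hi.symm, Nat.mod_lt _ (by norm_num), fun h => ?_⟩
  rw [h, pow_zero] at hi
  exact D.u1 (conj_eq_one_iff.1 hi.symm)

theorem form [Finite H] {x : H} (hx : x ∈ K) (hT : x ∈ T) : ∃ j a : ℕ, x = g ^ j * w ^ a := by
  obtain ⟨i, hi, hi5, hi0⟩ := D.exists_exp hx
  have hdec : ∀ i < 5, i ≠ 0 → ∃ j < 4, 3 ^ j % 5 = i := by decide
  obtain ⟨j, -, hj⟩ := hdec i hi5 hi0
  have h1 : g ^ j * u * (g ^ j)⁻¹ = u ^ i := by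
    rw [conj_iter D.gu j, pow_mod D.u5, hj]
  have h2 : (g ^ j)⁻¹ * x * u = u * ((g ^ j)⁻¹ * x) := by
    calc (g ^ j)⁻¹ * x * u = (g ^ j)⁻¹ * (x * u * x⁻¹) * x := by group
      _ = (g ^ j)⁻¹ * (g ^ j * u * (g ^ j)⁻¹) * x := by rw [hi, h1]
      _ = u * ((g ^ j)⁻¹ * x) := by group
  obtain ⟨a, b, hab⟩ := D.six (mul_mem (inv_mem (pow_mem D.gK j)) hx) (mul_mem (inv_mem (pow_mem D.gT j)) hT) h2
  have hwz : Commute w z := D.zc D.wK
  refine ⟨j + 4 * b, a, ?_⟩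
  rw [pow_add, pow_mul, D.g4, mul_assoc, ← (hwz.pow_pow a b).eq, ← hab, mul_inv_cancel_left]

/-- outer elements trivial modulo `<u>` -/
theorem tr_out [Finite H] (D5 : ∀ x, x ∉ T → ∀ y ∈ T, orderOf y = 15 → x * y ≠ y * x) {k : H} (hk : k ∈ K)
    (hkT : k ∉ T) (h : Tr P u k) : False := by
  -- `k` commutes with `u`
  have hku : k * u = u * k := by
    obtain ⟨v, hv, hvu⟩ := D.exists_out
    obtain ⟨s, hs, hsv⟩ := D.nonabelian hv hvu
    have h0 := D.comm_mod hs hv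
    have h01 : s * v * s⁻¹ * v⁻¹ ≠ 1 := by
      intro h1
      exact hsv (by rw [mul_inv_eq_one, mul_inv_eq_iff_eq_mul] at h1; exact h1)
    refine (D.comm_iff h0 h01).1 ?_
    obtain ⟨c, hc, e1⟩ := h v hv
    obtain ⟨d, hd, e2⟩ := h s hs
    have h2 : k * (s * v * s⁻¹ * v⁻¹) * k⁻¹ = s * v * s⁻¹ * v⁻¹ := by
      have e3 : k * (s * v * s⁻¹ * v⁻¹) * k⁻¹ =
          (k * s * k⁻¹) * (k * v * k⁻¹) * (k * s * k⁻¹)⁻¹ * (k * v * k⁻¹)⁻¹ := by group
      have c1 := D.central_pow hv hd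
      have c2 := D.central_pow (inv_mem hs) hc
      have c3 := D.central_pow (inv_mem hv) hc
      have c4 := D.central_pow (D.zP hd) hc
      rw [e3, e1, e2]
      have c5 := D.central_pow (inv_mem (D.zP hd)) hc
      calc s * d * (v * c) * (s * d)⁻¹ * (v * c)⁻¹ = s * (d * v) * (c * d⁻¹) * s⁻¹ * (c⁻¹ * v⁻¹) := by group
        _ = s * (v * d) * (d⁻¹ * c) * s⁻¹ * (c⁻¹ * v⁻¹) := by rw [← c1, ← c5]
        _ = s * v * (c * s⁻¹) * c⁻¹ * v⁻¹ := by group
        _ = s * v * (s⁻¹ * c) * c⁻¹ * v⁻¹ := by rw [← c2]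
        _ = s * v * s⁻¹ * v⁻¹ := by group
    exact mul_inv_eq_iff_eq_mul.1 h2
  have hkc : ∀ c ∈ zpowers u, k * c = c * k := by
    intro c hc
    obtain ⟨i, rfl⟩ := (mem_zp D.u5).1 hc
    exact (Commute.pow_right (show Commute k u from hku) i).eq
  have hkP : ∀ v ∈ P, k * v = v * k := by
    intro v hv
    obtain ⟨c, hc, e1⟩ := h v hv
    obtain ⟨d, hd, e2⟩ := D.fixed hk hv hc e1
    have e3 := hkc d hd
    have e4 : k * v * d = v * k * d := by
      rw [mul_assoc, e2, mul_assoc v d k, ← e3, mul_assoc]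
    exact mul_right_cancel e4
  have hx1 : k * w * k⁻¹ * w⁻¹ = 1 := by
    refine D.free_tr (mul_mem (mul_mem (mul_mem hk D.wK) (inv_mem hk)) (inv_mem D.wK))
      (mul_mem (D.Tn.conj_mem _ D.wT k) (inv_mem D.wT)) ?_
    intro v hv
    refine ⟨1, one_mem _, ?_⟩
    have h1 : w⁻¹ * v * w ∈ P := by
      have h := D.conjP (inv_mem D.wK) hv
      rwa [inv_inv] at h
    have h2 := hkP _ h1
    have h3 := hkP v hv
    calc k * w * k⁻¹ * w⁻¹ * v * (k * w * k⁻¹ * w⁻¹)⁻¹ = k * w * k⁻¹ * ((w⁻¹ * v * w) * k) * w⁻¹ * k⁻¹ := by group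
      _ = k * w * k⁻¹ * (k * (w⁻¹ * v * w)) * w⁻¹ * k⁻¹ := by rw [h2]
      _ = (k * v) * k⁻¹ := by group
      _ = v * 1 := by rw [h3, mul_inv_cancel_right, mul_one]
  have hkw : k * w = w * k := by
    rw [mul_inv_eq_one, mul_inv_eq_iff_eq_mul] at hx1
    exact hx1
  refine D5 k hkT (w * u) (mul_mem D.wT (D.PT D.uP)) D.ord_wu ?_
  exact (Commute.mul_right (show Commute k w from hkw) (show Commute k u from hku)).eq

/-- the centralizer of an element outside `<u>` -/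
theorem gen [Finite H] {v x : H} (hv : v ∈ P) (hvu : v ∉ zpowers u) (hx : x ∈ T) (hxv : x * v = v * x) :
    ∃ i : ℕ, ∃ c ∈ zpowers u, x = v ^ i * c := by
  classical
  have hv5 : v ^ 5 = 1 := D.P5 v hv
  have hv1 : v ≠ 1 := fun h => hvu (h ▸ one_mem _)
  let f : Fin 5 × zpowers u → (T ⊓ centralizer ({v} : Set H) : Subgroup H) := fun q =>
    ⟨v ^ (q.1 : ℕ) * q.2, mul_mem (pow_mem (mem_inf.2 ⟨D.PT hv, mem_centralizer_singleton_iff.2 rfl⟩) _)
      (mem_inf.2 ⟨D.PT (D.zP q.2.2), mem_centralizer_singleton_iff.2 (D.central_pow hv q.2.2).symm⟩)⟩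
  have hf : Function.Injective f := by
    rintro ⟨i, c⟩ ⟨j, d⟩ h
    have h1 : v ^ (i : ℕ) * (c : H) = v ^ (j : ℕ) * d := congrArg Subtype.val h
    -- reduce to `v ^ m ∈ <u>`
    have h2 : ∀ m : ℕ, v ^ m ∈ zpowers u → m % 5 = 0 := by
      intro m hm
      by_contra hm0
      have hvm : v ^ m ≠ 1 := by
        intro h
        have h3 := orderOf_dvd_of_pow_eq_one h
        rw [orderOf_eq_prime (hp := ⟨Nat.prime_five⟩) hv5 hv1] at h3
        omega
      obtain ⟨j, hj⟩ := pw5 hv5 hvm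
      exact hvu (hj ▸ pow_mem hm j)
    have h3 : v ^ ((i : ℕ) + 4 * j) ∈ zpowers u := by
      have e1 : v ^ (j : ℕ) * v ^ (4 * (j : ℕ)) = 1 := by
        rw [← pow_add, pow_mod hv5]
        have : ((j : ℕ) + 4 * j) % 5 = 0 := by omega
        rw [this, pow_zero]
      have e2 : v ^ ((i : ℕ) + 4 * j) = d * (c : H)⁻¹ := by
        have e3 : v ^ (i : ℕ) = v ^ (j : ℕ) * (d * (c : H)⁻¹) := by
          rw [← mul_assoc, ← h1, mul_inv_cancel_right]
        have e4 := D.central_pow (pow_mem hv (4 * (j : ℕ))) (mul_mem d.2 (inv_mem c.2))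
        rw [pow_add, e3, mul_assoc, ← e4, ← mul_assoc, e1, one_mul]
      rw [e2]
      exact mul_mem d.2 (inv_mem c.2)
    have h4 := h2 _ h3
    have h5 : i = j := Fin.ext (by omega)
    subst h5
    exact Prod.ext rfl (Subtype.ext (mul_left_cancel h1))
  have hcard : Nat.card (Fin 5 × zpowers u) = Nat.card (T ⊓ centralizer ({v} : Set H) : Subgroup H) := by
    have h1 : Nat.card (T ⊓ centralizer ({v} : Set H) : Subgroup H) = 25 := D.cT_out hv hvu
    rw [h1, Nat.card_prod, Nat.card_zpowers, D.ord_u, Nat.card_fin]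
  obtain ⟨q, hq⟩ := ((Nat.bijective_iff_injective_and_card f).2 ⟨hf, hcard⟩).2
    ⟨x, mem_inf.2 ⟨hx, mem_centralizer_singleton_iff.2 hxv⟩⟩
  exact ⟨q.1, q.2, q.2.2, (congrArg Subtype.val hq).symm⟩

/-- no outer involution of `K` commutes with `g` -/
theorem main [Finite H] (D5 : ∀ x, x ∉ T → ∀ y ∈ T, orderOf y = 15 → x * y ≠ y * x) {τ : H} (hτ : τ ∈ K)
    (hT : τ ∉ T) (h2 : τ * τ = 1) (hg : τ * g = g * τ) : False := by
  classical
  by_cases hA : ∀ v ∈ P, v ∉ zpowers u → ∀ c ∈ zpowers u, τ * v * τ⁻¹ ≠ v * c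
  · have h3 := D.tr_of_iv hτ (D.iv_of hτ h2 hA) (D.iv_T D.zK D.zT D.z2 D.z1)
    exact D.tr_out D5 (mul_mem hτ D.zK) (fun h => hT ((Subgroup.mul_mem_cancel_right T D.zT).1 h)) h3
  · push Not at hA
    obtain ⟨v, hv, hvu, c, hc, hvc⟩ := hA
    have hgv : g * v * g⁻¹ ∈ P := D.conjP D.gK hv
    by_cases hB : (g * v * g⁻¹) * v = v * (g * v * g⁻¹)
    · obtain ⟨i, d, hd, hi⟩ := D.gen hv hvu (D.PT hgv) hB
      have hi5 : i % 5 ≠ 0 := by
        intro h0
        rw [pow_mod (D.P5 v hv), h0, pow_zero, one_mul] at hi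
        apply hvu
        have h1 := D.conj_c (inv_mem D.gK) (hi ▸ hd : g * v * g⁻¹ ∈ zpowers u)
        have h3 : g⁻¹ * (g * v * g⁻¹) * g⁻¹⁻¹ = v := by group
        rwa [h3] at h1
      have h4 : ∀ n : ℕ, ∃ e ∈ zpowers u, g ^ n * v * (g ^ n)⁻¹ = v ^ (i ^ n) * e := by
        intro n
        induction n with
        | zero => exact ⟨1, one_mem _, by simp⟩
        | succ n ih =>
          obtain ⟨e, he, h5⟩ := ih
          have e1 : g ^ (n + 1) * v * (g ^ (n + 1))⁻¹ = g * (g ^ n * v * (g ^ n)⁻¹) * g⁻¹ := by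
            rw [pow_succ']; group
          have e2 : g * (v ^ (i ^ n) * e) * g⁻¹ = (g * v * g⁻¹) ^ (i ^ n) * (g * e * g⁻¹) := by
            rw [conj_pow]; group
          have e3 : Commute (v ^ i) d := D.central_pow (pow_mem hv i) hd
          refine ⟨d ^ (i ^ n) * (g * e * g⁻¹), mul_mem (pow_mem hd _) (D.conj_c D.gK he), ?_⟩
          rw [e1, h5, e2, hi, e3.mul_pow, ← pow_mul, mul_assoc, pow_succ']
      obtain ⟨e, he, h5⟩ := h4 4
      have h6 : i ^ 4 % 5 = 1 := by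
        have hdec : ∀ i < 5, i ≠ 0 → i ^ 4 % 5 = 1 := by decide
        rw [Nat.pow_mod]
        exact hdec _ (Nat.mod_lt _ (by norm_num)) hi5
      rw [D.g4, pow_mod (D.P5 v hv), h6, pow_one] at h5
      exact D.z1 (D.free D.zK D.zT hv hvu he h5)
    · -- the subgroup of fixed elements
      let F : Subgroup H :=
        { carrier := {x | x ∈ P ∧ ∃ c ∈ zpowers u, τ * x * τ⁻¹ = x * c}
          one_mem' := ⟨one_mem _, 1, one_mem _, by simp⟩
          mul_mem' := by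
            rintro x y ⟨hx, c, hc, h3⟩ ⟨hy, d, hd, h4⟩
            refine ⟨mul_mem hx hy, c * d, mul_mem hc hd, ?_⟩
            have e1 : τ * (x * y) * τ⁻¹ = (τ * x * τ⁻¹) * (τ * y * τ⁻¹) := by group
            have e2 := D.central_pow hy hc
            rw [e1, h3, h4, mul_assoc, ← mul_assoc c, ← e2]
            group
          inv_mem' := by
            rintro x ⟨hx, c, hc, h3⟩
            refine ⟨inv_mem hx, c⁻¹, inv_mem hc, ?_⟩
            have e1 : τ * x⁻¹ * τ⁻¹ = (τ * x * τ⁻¹)⁻¹ := by group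
            have e2 := D.central_pow (inv_mem hx) (inv_mem hc)
            rw [e1, h3, mul_inv_rev, e2] }
      have hFP : F ≤ P := fun x hx => hx.1
      have huF : ∀ d ∈ zpowers u, d ∈ F := by
        intro d hd
        refine ⟨D.zP hd, d⁻¹ * (τ * d * τ⁻¹), mul_mem (inv_mem hd) (D.conj_c hτ hd), ?_⟩
        rw [mul_inv_cancel_left]
      have hvF : v ∈ F := ⟨hv, c, hc, hvc⟩
      have hMF : (T ⊓ centralizer ({v} : Set H) : Subgroup H) ≤ F := by
        intro x hx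
        obtain ⟨i, d, hd, rfl⟩ := D.gen hv hvu (mem_inf.1 hx).1 (mem_centralizer_singleton_iff.1 (mem_inf.1 hx).2)
        exact mul_mem (pow_mem hvF i) (huF d hd)
      have hgF : g * v * g⁻¹ ∈ F := by
        refine ⟨hgv, g * c * g⁻¹, D.conj_c D.gK hc, ?_⟩
        have hg' : τ * g = g * τ := hg
        have hg2 : g⁻¹ * τ⁻¹ = τ⁻¹ * g⁻¹ := by
          rw [← mul_inv_rev, ← mul_inv_rev, hg]
        calc τ * (g * v * g⁻¹) * τ⁻¹ = (τ * g) * v * (g⁻¹ * τ⁻¹) := by group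
          _ = (g * τ) * v * (τ⁻¹ * g⁻¹) := by rw [hg', hg2]
          _ = g * (τ * v * τ⁻¹) * g⁻¹ := by group
          _ = g * (v * c) * g⁻¹ := by rw [hvc]
          _ = g * v * g⁻¹ * (g * c * g⁻¹) := by group
      have hM : Nat.card (T ⊓ centralizer ({v} : Set H) : Subgroup H) = 25 := D.cT_out hv hvu
      have h25 : 25 ≤ Nat.card F := by rw [← hM]; exact Subgroup.card_le_of_le hMF
      have hdvd : Nat.card F ∣ 5 ^ 3 := by
        have h3 := Subgroup.card_dvd_of_le hFP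
        rw [D.Pc] at h3
        exact h3
      obtain ⟨k, hk, hFk⟩ := (Nat.dvd_prime_pow Nat.prime_five).1 hdvd
      have hFeq : F = P := by
        refine Subgroup.eq_of_le_of_card_ge hFP ?_
        rw [D.Pc, hFk]
        have hk' : k = 0 ∨ k = 1 ∨ k = 2 ∨ k = 3 := by omega
        rcases hk' with rfl | rfl | rfl | rfl
        · rw [hFk] at h25; norm_num at h25
        · rw [hFk] at h25; norm_num at h25
        · exfalso
          have h7 : (T ⊓ centralizer ({v} : Set H) : Subgroup H) = F :=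
            Subgroup.eq_of_le_of_card_ge hMF (by rw [hM, hFk]; norm_num)
          rw [← h7] at hgF
          exact hB (mem_centralizer_singleton_iff.1 (mem_inf.1 hgF).2)
        · norm_num
      refine D.tr_out D5 hτ hT ?_
      intro x hx
      rw [← hFeq] at hx
      exact hx.2

/-- elements of `C_K(w)` commuting with `g` are in `T` -/
theorem comm_T [Finite H] (hsq : ∀ x : H, x * x ∈ T)
    (D5 : ∀ x, x ∉ T → ∀ y ∈ T, orderOf y = 15 → x * y ≠ y * x) {y : H} (hy : y ∈ K)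
    (hg : g * y = y * g) : y ∈ T := by
  by_contra hyT
  obtain ⟨i, hi, hi5, hi0⟩ := D.exists_exp hy
  have hdec : ∀ i < 5, i ≠ 0 → ∃ e < 4, (i * 3 ^ e) % 5 = 1 := by decide
  obtain ⟨e, -, he⟩ := hdec i hi5 hi0
  have hgc : Commute y g := hg.symm
  set τ := y * g ^ e with hτ
  have hτK : τ ∈ K := mul_mem hy (pow_mem D.gK e)
  have hτT : τ ∉ T := fun h => hyT ((Subgroup.mul_mem_cancel_right T (pow_mem D.gT e)).1 h)
  have hτg : Commute τ g := Commute.mul_left hgc (Commute.pow_left (Commute.refl g) e)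
  have hτu : τ * u = u * τ := by
    have h1 : τ * u * τ⁻¹ = u := by
      have e1 : τ * u * τ⁻¹ = y * (g ^ e * u * (g ^ e)⁻¹) * y⁻¹ := by rw [hτ]; group
      rw [e1, conj_iter D.gu e, ← conj_pow, hi, ← pow_mul, pow_mod D.u5, he, pow_one]
    exact mul_inv_eq_iff_eq_mul.1 h1
  have hcu : Commute τ u := hτu
  obtain ⟨a, b, hab⟩ := D.six (mul_mem hτK hτK) (hsq τ) (hcu.mul_left hcu).eq
  have hzg : Commute z g := (D.zc D.gK).symm
  have hwa : w ^ a = 1 := by
    apply D.wpow_one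
    have h1 : Commute (w ^ a * z ^ b) g := by
      rw [← hab]
      exact hτg.mul_left hτg
    have h2 : w ^ a = (w ^ a * z ^ b) * (z ^ b)⁻¹ := by rw [mul_inv_cancel_right]
    have h3 : Commute (w ^ a) g := by
      rw [h2]
      exact h1.mul_left (hzg.pow_left b).inv_left
    exact h3.eq.symm
  rw [hwa, one_mul] at hab
  rcases D.z_pow b with hb | hb <;> rw [hb] at hab
  · exact D.main D5 hτK hτT hab hτg.eq
  · refine D.main D5 (τ := τ * g ^ 2) (mul_mem hτK (pow_mem D.gK 2))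
      (fun h => hτT ((Subgroup.mul_mem_cancel_right T (pow_mem D.gT 2)).1 h)) ?_ ?_
    · have h1 : τ * g ^ 2 * (τ * g ^ 2) = (τ * τ) * (g ^ 2 * g ^ 2) := by
        have h2 := (hτg.pow_right 2).eq
        calc τ * g ^ 2 * (τ * g ^ 2) = τ * (g ^ 2 * τ) * g ^ 2 := by group
          _ = τ * (τ * g ^ 2) * g ^ 2 := by rw [h2]
          _ = (τ * τ) * (g ^ 2 * g ^ 2) := by group
      rw [h1, hab, ← pow_add]
      show z * g ^ 4 = 1
      rw [D.g4, D.z2]
    · exact (hτg.mul_left (Commute.pow_left (Commute.refl g) 2)).eq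

/-- the four elements -/
theorem mem4 [Finite H] (hsq : ∀ x : H, x * x ∈ T)
    (D5 : ∀ x, x ∉ T → ∀ y ∈ T, orderOf y = 15 → x * y ≠ y * x) {y : H} :
    (y ∈ K ∧ y * w = w * y ∧ g * y = y * g) ↔ y ∈ zpowers (g ^ 2) := by
  constructor
  · rintro ⟨hy, hw, hg⟩
    obtain ⟨j, a, rfl⟩ := D.form hy (D.comm_T hsq D5 hy hg)
    have h1 : w ^ a = 1 := by
      apply D.wpow_one
      have h2 : g ^ j * (g * w ^ a) = g ^ j * (w ^ a * g) := by
        rw [← mul_assoc, ← pow_succ, pow_succ', mul_assoc, hg, mul_assoc]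
      exact mul_left_cancel h2
    rw [h1, mul_one] at hw ⊢
    have h3 : w ^ (2 ^ j) = w := by
      rw [← D.gw_pow j, hw, mul_inv_cancel_right]
    rcases Nat.even_or_odd' j with ⟨c, rfl | rfl⟩
    · rw [pow_mul]
      exact npow_mem_zpowers _ c
    · exfalso
      have h4 : 2 ^ (2 * c + 1) % 3 = 2 := by
        rw [pow_succ, pow_mul, Nat.mul_mod, Nat.pow_mod]
        norm_num
      rw [pow_mod3 D.w3, h4] at h3
      exact D.w_ne h3
  · intro h
    rw [← mem_powers_iff_mem_zpowers] at h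
    obtain ⟨a, rfl⟩ := (Submonoid.mem_powers_iff _ _).1 h
    refine ⟨pow_mem (pow_mem D.gK 2) a, ?_, ?_⟩
    · have h1 : Commute (g ^ 2) w := by
        have h2 := D.gw_pow 2
        have h3 : w ^ (2 ^ 2) = w := by rw [pow_mod3 D.w3, show 2 ^ 2 % 3 = 1 from rfl, pow_one]
        rw [h3] at h2
        exact mul_inv_eq_iff_eq_mul.1 h2
      exact (h1.pow_left a).eq
    · exact (Commute.pow_right (Commute.pow_right (Commute.refl g) 2) a).eq

/-- elements commuting with `w` and `u` -/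
theorem cen [Finite H] (D5 : ∀ x, x ∉ T → ∀ y ∈ T, orderOf y = 15 → x * y ≠ y * x) {y b : H} (hy : y ∈ K)
    (hw : y * w = w * y) (hu : y * u = u * y) (hb : b ∈ K) (hbw : b * w = w * b) : Commute y b := by
  have hT : y ∈ T := by
    by_contra hT
    exact D5 y hT (w * u) (mul_mem D.wT (D.PT D.uP)) D.ord_wu
      (Commute.mul_right (show Commute y w from hw) (show Commute y u from hu)).eq
  obtain ⟨i, j, rfl⟩ := D.six hy hT hu
  have h1 : Commute w b := hbw.symm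
  have h2 : Commute z b := (D.zc hb).symm
  exact (h1.pow_left i).mul_left (h2.pow_left j)

theorem abel [Finite H] (D5 : ∀ x, x ∉ T → ∀ y ∈ T, orderOf y = 15 → x * y ≠ y * x) {a b : H} (ha : a ∈ K)
    (haw : a * w = w * a) (hb : b ∈ K) (hbw : b * w = w * b) : a * b = b * a := by
  have key : ∃ y ∈ K, y * w = w * y ∧ ∀ b ∈ K, b * w = w * b → ∃ e : ℕ, (y ^ e * b) * u = u * (y ^ e * b) := by
    by_cases h : ∃ y ∈ K, y * w = w * y ∧ y * u * y⁻¹ = u ^ 2
    · obtain ⟨y, hy, hyw, hyu⟩ := h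
      refine ⟨y, hy, hyw, fun b hb hbw => ?_⟩
      obtain ⟨i, hi, hi5, hi0⟩ := D.exists_exp hb
      have hdec : ∀ i < 5, i ≠ 0 → ∃ e < 4, (2 ^ e * i) % 5 = 1 := by decide
      obtain ⟨e, -, he⟩ := hdec i hi5 hi0
      refine ⟨e, mul_inv_eq_iff_eq_mul.1 ?_⟩
      have e1 : y ^ e * b * u * (y ^ e * b)⁻¹ = y ^ e * (b * u * b⁻¹) * (y ^ e)⁻¹ := by group
      rw [e1, hi, ← conj_pow, conj_iter hyu e, ← pow_mul, pow_mod D.u5, he, pow_one]
    · push Not at h
      have hg2 : (g ^ 2) * u * (g ^ 2)⁻¹ = u ^ 4 := by rw [conj_iter D.gu 2, pow_mod D.u5]; rfl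
      have hg2w : Commute (g ^ 2) w := by
        have h2 := D.gw_pow 2
        have h3 : w ^ (2 ^ 2) = w := by rw [pow_mod3 D.w3, show 2 ^ 2 % 3 = 1 from rfl, pow_one]
        rw [h3] at h2
        exact mul_inv_eq_iff_eq_mul.1 h2
      refine ⟨g ^ 2, pow_mem D.gK 2, hg2w.eq, fun b hb hbw => ?_⟩
      obtain ⟨i, hi, hi5, hi0⟩ := D.exists_exp hb
      have hi' : i = 1 ∨ i = 2 ∨ i = 3 ∨ i = 4 := by omega
      rcases hi' with rfl | rfl | rfl | rfl
      · refine ⟨0, ?_⟩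
        rw [pow_zero, one_mul]
        rw [pow_one] at hi
        exact mul_inv_eq_iff_eq_mul.1 hi
      · exact absurd hi (h b hb hbw)
      · exfalso
        refine h (b ^ 3) (pow_mem hb 3) (Commute.pow_left (show Commute b w from hbw) 3).eq ?_
        rw [conj_iter hi 3, pow_mod D.u5]
        rfl
      · refine ⟨1, mul_inv_eq_iff_eq_mul.1 ?_⟩
        have e1 : (g ^ 2) ^ 1 * b * u * ((g ^ 2) ^ 1 * b)⁻¹ = (g ^ 2) * (b * u * b⁻¹) * (g ^ 2)⁻¹ := by group
        rw [e1, hi, ← conj_pow, hg2, ← pow_mul, pow_mod D.u5, show 4 * 4 % 5 = 1 from rfl, pow_one]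
  obtain ⟨y, hy, hyw, hyall⟩ := key
  obtain ⟨e, he⟩ := hyall a ha haw
  obtain ⟨f, hf⟩ := hyall b hb hbw
  have hyw' : Commute y w := hyw
  have c1 : Commute (y ^ e * a) w := (hyw'.pow_left e).mul_left haw
  have c2 : Commute (y ^ f * b) w := (hyw'.pow_left f).mul_left hbw
  have hA : y ^ e * a ∈ K := mul_mem (pow_mem hy e) ha
  have hB : y ^ f * b ∈ K := mul_mem (pow_mem hy f) hb
  have d1 : Commute (y ^ e * a) y := D.cen D5 hA c1.eq he hy hyw
  have d2 : Commute (y ^ f * b) y := D.cen D5 hB c2.eq hf hy hyw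
  have d3 : Commute (y ^ e * a) (y ^ f * b) := D.cen D5 hA c1.eq he hB c2.eq
  have ea : a = (y ^ e)⁻¹ * (y ^ e * a) := by rw [inv_mul_cancel_left]
  have eb : b = (y ^ f)⁻¹ * (y ^ f * b) := by rw [inv_mul_cancel_left]
  have f1 : Commute ((y ^ e)⁻¹) ((y ^ f)⁻¹) := (((Commute.refl y).pow_pow e f).inv_inv)
  have f2 : Commute ((y ^ e)⁻¹) (y ^ f * b) := (d2.pow_right e).inv_right.symm
  have f3 : Commute (y ^ e * a) ((y ^ f)⁻¹) := (d1.pow_right f).inv_right
  have : Commute a b := by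
    rw [ea, eb]
    exact (f1.mul_right f2).mul_left (f3.mul_right d3)
  exact this.eq

/-- **the class number of the complement** -/
theorem count_K [Finite H] (hsq : ∀ x : H, x * x ∈ T)
    (D5 : ∀ x, x ∉ T → ∀ y ∈ T, orderOf y = 15 → x * y ≠ y * x) :
    4 * Nat.card (ConjClasses K) = 24 + Nat.card K := by
  classical
  set Y : Subgroup K := (centralizer ({w} : Set H)).subgroupOf K with hY
  have hmem : ∀ b : K, b ∈ Y ↔ (b : H) * w = w * b := by
    intro b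
    rw [hY, mem_subgroupOf, mem_centralizer_singleton_iff]
  have hidx : Y.index = 2 := by
    rw [index_eq_two_iff]
    refine ⟨⟨g, D.gK⟩, fun b => ?_⟩
    have h1 : (b : H) * w = w * b ↔ (b : H) * w * (b : H)⁻¹ = w := mul_inv_eq_iff_eq_mul.symm
    have h2 : ((b * ⟨g, D.gK⟩ : K) : H) * w = w * ((b * ⟨g, D.gK⟩ : K) : H) ↔
        ((b : H) * w * (b : H)⁻¹) ^ 2 = w := by
      rw [← mul_inv_eq_iff_eq_mul]
      have e1 : ((b * ⟨g, D.gK⟩ : K) : H) * w * ((b * ⟨g, D.gK⟩ : K) : H)⁻¹ = ((b : H) * w * (b : H)⁻¹) ^ 2 := by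
        have : ((b * ⟨g, D.gK⟩ : K) : H) = (b : H) * g := rfl
        rw [this, conj_pow, ← D.gw]
        group
      rw [e1]
    rw [hmem, hmem, h1, h2]
    rcases D.conj_w b.2 with h | h
    · rw [h]
      right
      exact ⟨rfl, D.w_ne⟩
    · rw [h]
      left
      refine ⟨?_, D.w_ne⟩
      rw [← pow_mul, pow_mod3 D.w3, show 2 * 2 % 3 = 1 from rfl, pow_one]
  have hg : (⟨g, D.gK⟩ : K) ∉ Y := by
    rw [hmem]
    intro h
    have h1 : g * w * g⁻¹ = w := mul_inv_eq_iff_eq_mul.2 h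
    rw [D.gw] at h1
    exact D.w_ne h1
  have habel : ∀ a ∈ Y, ∀ b ∈ Y, a * b = b * a := fun a ha b hb =>
    Subtype.ext (D.abel D5 a.2 ((hmem a).1 ha) b.2 ((hmem b).1 hb))
  have h4 : orderOf (g ^ 2) = 4 := by
    have : Fact (Nat.Prime 2) := ⟨Nat.prime_two⟩
    refine orderOf_eq_prime_pow (p := 2) (n := 1) ?_ ?_
    · show ¬ (g ^ 2) ^ 2 = 1
      rw [← pow_mul]
      show ¬ g ^ 4 = 1
      rw [D.g4]
      exact D.z1
    · show (g ^ 2) ^ 4 = 1
      rw [← pow_mul]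
      exact D.g8
  have hcard : Nat.card {y : Y // (⟨g, D.gK⟩ : K) * (y : K) = y * ⟨g, D.gK⟩} = 4 := by
    rw [← h4, ← Nat.card_zpowers]
    refine Nat.card_congr
      { toFun := fun y => ⟨((y.1 : K) : H), (D.mem4 hsq D5).1 ⟨(y.1 : K).2, (hmem _).1 y.1.2, congrArg Subtype.val y.2⟩⟩
        invFun := fun y => ⟨⟨⟨y.1, ((D.mem4 hsq D5).2 y.2).1⟩, (hmem _).2 ((D.mem4 hsq D5).2 y.2).2.1⟩,
          Subtype.ext ((D.mem4 hsq D5).2 y.2).2.2⟩
        left_inv := fun y => rfl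
        right_inv := fun y => rfl }
  have h1 := card_abelian_two Y hidx habel hg hcard
  have h2 := Y.card_mul_index
  rw [hidx] at h2
  omega

end Gns

end Cfsg.Agent.H41.McLTwo
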