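import Cfsg.Agent.H41.McLTwo.LocC
import Cfsg.Agent.H41.McLTwo.Pack

/-!
# The local counts for `McL` and `McL.2`, `p = 5`, part D : assembly (helper41)
-/

set_option autoImplicit false
set_option maxRecDepth 100000

namespace Cfsg.Agent.H41.McLTwo

open Cfsg Subgroup Cfsg.Agent.H359.CT.McL
open Cfsg.Agent.H41.McLTwo.Ords (os iv order_xs)
open scoped Pointwise

universe u

section Compl

variable {H : Type u} [Group H] [Finite H] {T : Subgroup H} (P : Sylow 5 H)

/-- the complement -/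
theorem exists_cpl (D : Dat T (P : Subgroup H)) : ∃ (K : Subgroup H) (u : H), Cpl T (P : Subgroup H) K u ∧
    Nonempty ((normalizer ((P : Subgroup H) : Set H)) ⧸ (P : Subgroup H).subgroupOf (normalizer ((P : Subgroup H) : Set H)) ≃* K) := by
  classical
  obtain ⟨u, hu, hu1, hu7⟩ := D.exA
  set N := normalizer ((P : Subgroup H) : Set H) with hN
  have hPN : (P : Subgroup H) ≤ N := le_normalizer
  set Q := (P : Subgroup H).subgroupOf N with hQ
  have hQc : Nat.card Q = 125 := by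
    rw [← D.Pc]
    exact Nat.card_congr (subgroupOfEquivOfLe hPN).toEquiv
  have hcop : Nat.Coprime (Nat.card Q) Q.index := by
    rw [hQc]
    have h1 : Q.index ∣ (P : Subgroup H).index := by
      rw [← relIndex_mul_index hPN]
      exact Dvd.intro _ rfl
    have h2 : ¬ 5 ∣ Q.index := fun h => D.Pidx (h.trans h1)
    exact (Nat.Coprime.pow_left 3 ((Nat.Prime.coprime_iff_not_dvd Nat.prime_five).2 h2) : Nat.Coprime (5 ^ 3) _)
  obtain ⟨L, hL⟩ := exists_right_complement'_of_coprime hcop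
  have hLc : Nat.card L = Q.index := hL.symm.index_eq_card.symm
  refine ⟨L.map N.subtype, u, { toCen := { toDat := D, uP := hu, u1 := hu1, u7 := hu7 }, KN := ?_, dec := ?_, KP := ?_, K5 := ?_ },
    ⟨hL.symm.QuotientMulEquiv.trans (equivMapOfInjective L N.subtype N.subtype_injective)⟩⟩
  · exact map_subtype_le L
  · intro m hm
    obtain ⟨⟨a, b⟩, hab⟩ := hL.2 ⟨m, hm⟩
    refine ⟨a.1, mem_subgroupOf.1 a.2, b.1, mem_map_of_mem _ b.2, ?_⟩
    exact (congrArg Subtype.val hab).symm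
  · rintro k ⟨l, hl, rfl⟩ hkP
    have h1 : l ∈ Q := mem_subgroupOf.2 hkP
    have h2 : l ∈ Q ⊓ L := mem_inf.2 ⟨h1, hl⟩
    rw [hL.disjoint.eq_bot, mem_bot] at h2
    rw [h2]
    rfl
  · rw [Nat.card_congr (equivMapOfInjective L N.subtype N.subtype_injective).symm.toEquiv, hLc]
    rw [hQc] at hcop
    exact (Nat.Coprime.coprime_dvd_left (by norm_num : 5 ∣ 125) hcop).symm

/-- index 2 -/
theorem Cpl.card_K_two {K : Subgroup H} {u : H} (D : Cpl T (P : Subgroup H) K u) (hT : T.index = 2) : Nat.card K = 48 := by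
  have := D.Tn
  obtain ⟨t, ht⟩ := exists_outer hT
  obtain ⟨s, hs, hst⟩ := D.conj (t * u * t⁻¹) (D.Tn.conj_mem _ (D.PT D.uP) t) u (D.PT D.uP)
    (by rw [conj_pow, D.u5, mul_one, mul_inv_cancel]) D.u5 (fun h => D.u1 (conj_eq_one_iff.1 h)) D.u1 (D.cT_conj t u)
  have hmT : s * t ∉ T := fun h => ht ((Subgroup.mul_mem_cancel_left T hs).1 h)
  have hmu : (s * t) * u = u * (s * t) := by
    have h0 : s * t * u * (s * t)⁻¹ = s * (t * u * t⁻¹) * s⁻¹ := by group
    exact mul_inv_eq_iff_eq_mul.1 (h0.trans hst)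
  obtain ⟨p, hp, k, hk, hpk⟩ := D.dec _ (D.comm_mem D.uP D.u1 hmu)
  have hkT : k ∉ T := fun h => hmT (by rw [hpk]; exact mul_mem (D.PT hp) h)
  have hidx : (T.subgroupOf K).index = 2 := by
    rw [index_eq_two_iff]
    refine ⟨⟨k, hk⟩, fun b => ?_⟩
    rw [mem_subgroupOf, mem_subgroupOf]
    have h1 : ((b * ⟨k, hk⟩ : K) : H) = (b : H) * k := rfl
    rw [h1, mul_mem_iff_of_index_two hT]
    by_cases hb : (b : H) ∈ T
    · right
      exact ⟨hb, fun h => hkT (h.1 hb)⟩
    · left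
      exact ⟨⟨fun h => absurd h hb, fun h => absurd h hkT⟩, hb⟩
  have h2 := (T.subgroupOf K).card_mul_index
  have h3 : Nat.card (T.subgroupOf K) = 24 := by
    rw [← D.card_K0, ← inf_subgroupOf_left]
    exact Nat.card_congr (subgroupOfEquivOfLe inf_le_left).toEquiv
  rw [h3, hidx] at h2
  omega

/-- **the class number of `N(P) / P`** -/
theorem Dat.count_quot (D : Dat T (P : Subgroup H)) (hidx : T.index = 1 ∨ T.index = 2)
    (D5 : ∀ x, x ∉ T → ∀ y ∈ T, orderOf y = 15 → x * y ≠ y * x) :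
    (T.index = 1 → Nat.card (ConjClasses ((normalizer ((P : Subgroup H) : Set H)) ⧸
      (P : Subgroup H).subgroupOf (normalizer ((P : Subgroup H) : Set H)))) = 12) ∧
    (T.index = 2 → Nat.card (ConjClasses ((normalizer ((P : Subgroup H) : Set H)) ⧸
      (P : Subgroup H).subgroupOf (normalizer ((P : Subgroup H) : Set H)))) = 18) := by
  obtain ⟨K, u, C, ⟨e⟩⟩ := exists_cpl P D
  obtain ⟨z, w, g, G⟩ := C.exists_gns
  have hsq : ∀ x : H, x * x ∈ T := by
    rcases hidx with h | h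
    · rw [index_eq_one] at h
      rw [h]
      exact fun x => mem_top _
    · intro x
      exact mul_self_mem_of_index_two h x
  have h1 := G.count_K hsq D5
  have hcc : Nat.card (ConjClasses ((normalizer ((P : Subgroup H) : Set H)) ⧸
      (P : Subgroup H).subgroupOf (normalizer ((P : Subgroup H) : Set H)))) = Nat.card (ConjClasses K) :=
    Nat.card_congr
      { toFun := ConjClasses.map e.toMonoidHom
        invFun := ConjClasses.map e.symm.toMonoidHom
        left_inv := fun c => by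
          obtain ⟨x, rfl⟩ := ConjClasses.mk_surjective c
          show ConjClasses.mk (e.symm (e x)) = _
          rw [MulEquiv.symm_apply_apply]
        right_inv := fun c => by
          obtain ⟨x, rfl⟩ := ConjClasses.mk_surjective c
          show ConjClasses.mk (e (e.symm x)) = _
          rw [MulEquiv.apply_symm_apply] }
  rw [hcc]
  constructor
  · intro h
    rw [index_eq_one] at h
    have h2 := C.card_K0
    rw [h, inf_top_eq] at h2
    omega
  · intro h
    have h2 := C.card_K_two P h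
    omega

end Compl

/-- the class list of a group isomorphic to `McL` -/
theorem exists_cls {G : Type u} [Group G] [Finite G] (h : Spor.IsoMcL G) :
    ∃ C : Cls G 24, C.o = os ∧ C.c = cc ∧ C.inv = iv := by
  obtain ⟨e1⟩ := h
  obtain ⟨e2⟩ := iso_K0
  let e : G ≃* ↥Cfsg.Agent.McLType.Gens.K0 := e1.trans e2.symm
  refine ⟨{ x := fun i => e.symm (xs i), o := os, c := cc, inv := iv, cover := ?_, inj := ?_, order := ?_, card := ?_, hinv := ?_ },
    rfl, rfl, rfl⟩
  · intro g
    obtain ⟨j, hj⟩ := classes.1 (e g)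
    refine ⟨j, ?_⟩
    have h1 := e.symm.toMonoidHom.map_isConj hj
    have h2 : e.symm.toMonoidHom (e g) = g := e.symm_apply_apply g
    rw [h2] at h1
    exact h1
  · intro i j hij
    have h1 := e.toMonoidHom.map_isConj hij
    have h2 : ∀ k, e.toMonoidHom (e.symm (xs k)) = xs k := fun k => e.apply_symm_apply _
    rw [h2, h2] at h1
    exact xs_inj i j h1
  · intro i
    rw [← order_xs i]
    exact orderOf_injective e.symm.toMonoidHom e.symm.injective (xs i)
  · intro i
    rw [← (classes.2 i)]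
    refine Nat.card_congr (e.toEquiv.subtypeEquiv fun c => ?_)
    rw [mem_centralizer_singleton_iff, mem_centralizer_singleton_iff]
    show c * e.symm (xs i) = e.symm (xs i) * c ↔ e c * xs i = xs i * e c
    rw [← e.injective.eq_iff, map_mul, map_mul, e.apply_symm_apply]
  · intro i
    rw [← map_inv]
    exact e.symm.toMonoidHom.map_isConj (Ords.hinv i)


theorem q1 : ∀ i : Fin 24, os i ∣ 125 → os i ∣ 5 := by decide +kernel
theorem q2 : ∀ i : Fin 24, os i = 5 → cc i = 750 ∨ cc i = 25 := by decide +kernel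
theorem q3 : ∀ i j : Fin 24, os i = 5 → os j = 5 → cc i = cc j → i = j := by decide +kernel
theorem q4 : ∀ i : Fin 24, os i ≠ 24 := by decide +kernel
theorem q5 : os 5 = 5 ∧ cc 5 = 750 ∧ os 6 = 5 ∧ cc 6 = 25 := by decide +kernel

section Build

variable {H : Type u} [Group H] [Finite H] {S : Subgroup H}

theorem cT_eq (x : S) : cT S (x : H) = Nat.card (centralizer ({x} : Set S)) := by
  unfold cT
  refine Nat.card_congr
    { toFun := fun c => ⟨⟨c.1, (mem_inf.1 c.2).1⟩, mem_centralizer_singleton_iff.2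
        (Subtype.ext (mem_centralizer_singleton_iff.1 (mem_inf.1 c.2).2))⟩
      invFun := fun c => ⟨c.1.1, mem_inf.2 ⟨c.1.2, mem_centralizer_singleton_iff.2
        (congrArg Subtype.val (mem_centralizer_singleton_iff.1 c.2))⟩⟩
      left_inv := fun c => rfl
      right_inv := fun c => rfl }

theorem card_P (hS : Spor.IsoMcL S) (hidx : S.index = 1 ∨ S.index = 2) (P : Sylow 5 H) :
    Nat.card (P : Subgroup H) = 125 ∧ ¬ 5 ∣ (P : Subgroup H).index := by
  have : Fact (Nat.Prime 5) := ⟨Nat.prime_five⟩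
  have h := H904.McLCent.card_L hS
  have h0 : Nat.card H = S.index * 898128000 := by
    rw [← S.index_mul_card, h]
  have h1 : ¬ 5 ∣ (P : Subgroup H).index := P.not_dvd_index
  refine ⟨?_, h1⟩
  obtain ⟨k, hk⟩ := IsPGroup.iff_card.1 P.2
  have h2 := (P : Subgroup H).card_mul_index
  rw [hk, h0] at h2
  rw [hk]
  have h3 : k < 4 := by
    by_contra hcon
    have h4 : 5 ^ 4 ∣ S.index * 898128000 := by
      rw [← h2]
      exact Dvd.dvd.mul_right (pow_dvd_pow 5 (by omega)) _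
    rcases hidx with h5 | h5 <;> rw [h5] at h4 <;> norm_num at h4
  have h5 : 5 ^ 3 ∣ 5 ^ k := by
    have h6 : 5 ^ 3 ∣ 5 ^ k * (P : Subgroup H).index := by
      rw [h2]
      rcases hidx with h5 | h5 <;> rw [h5] <;> norm_num
    exact (Nat.Coprime.pow_left 3 ((Nat.Prime.coprime_iff_not_dvd Nat.prime_five).2 h1)).dvd_of_dvd_mul_right h6
  have h6 := (Nat.pow_dvd_pow_iff_le_right (by norm_num : 1 < 5)).1 h5
  have : k = 3 := by omega
  rw [this]
  norm_num

omit [Finite H] in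
theorem cT_conj' [hSn : S.Normal] (m x : H) : cT S (m * x * m⁻¹) = cT S x := by
  have k1 : ∀ c ∈ S ⊓ centralizer ({x} : Set H), m * c * m⁻¹ ∈ S ⊓ centralizer ({m * x * m⁻¹} : Set H) := by
    intro c hc
    rw [mem_inf, mem_centralizer_singleton_iff] at hc ⊢
    refine ⟨hSn.conj_mem _ hc.1 m, ?_⟩
    calc m * c * m⁻¹ * (m * x * m⁻¹) = m * (c * x) * m⁻¹ := by group
      _ = m * (x * c) * m⁻¹ := by rw [hc.2]
      _ = m * x * m⁻¹ * (m * c * m⁻¹) := by group
  have k2 : ∀ c ∈ S ⊓ centralizer ({m * x * m⁻¹} : Set H), m⁻¹ * c * m ∈ S ⊓ centralizer ({x} : Set H) := by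
    intro c hc
    rw [mem_inf, mem_centralizer_singleton_iff] at hc ⊢
    refine ⟨?_, ?_⟩
    · have h1 := hSn.conj_mem _ hc.1 m⁻¹
      rwa [inv_inv] at h1
    · calc m⁻¹ * c * m * x = m⁻¹ * (c * (m * x * m⁻¹)) * m := by group
        _ = m⁻¹ * (m * x * m⁻¹ * c) * m := by rw [hc.2]
        _ = x * (m⁻¹ * c * m) := by group
  unfold cT
  exact (Nat.card_congr
    { toFun := fun c : (S ⊓ centralizer ({x} : Set H) : Subgroup H) => ⟨m * (c : H) * m⁻¹, k1 c c.2⟩
      invFun := fun c : (S ⊓ centralizer ({m * x * m⁻¹} : Set H) : Subgroup H) => ⟨m⁻¹ * (c : H) * m, k2 c c.2⟩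
      left_inv := fun c => Subtype.ext (by show m⁻¹ * (m * (c : H) * m⁻¹) * m = c; group)
      right_inv := fun c => Subtype.ext (by show m * (m⁻¹ * (c : H) * m) * m⁻¹ = c; group) }).symm

/-- an element of order 5 is conjugate into `P` -/
theorem exists_conj_mem (P : Sylow 5 H) {x : H} (hx : orderOf x = 5) : ∃ g : H, g * x * g⁻¹ ∈ (P : Subgroup H) := by
  have : Fact (Nat.Prime 5) := ⟨Nat.prime_five⟩
  have h1 : IsPGroup 5 (zpowers x) := IsPGroup.of_card (n := 1) (by rw [Nat.card_zpowers, hx, pow_one])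
  obtain ⟨Q, hQ⟩ := h1.exists_le_sylow
  obtain ⟨g, hg⟩ := MulAction.exists_smul_eq H Q P
  refine ⟨g, ?_⟩
  rw [← hg, Sylow.coe_subgroup_smul]
  exact smul_mem_pointwise_smul x (MulAut.conj g) _ (hQ (mem_zpowers x))

/-- **the local data** -/
theorem dat [hSn : S.Normal] (hS : Spor.IsoMcL S) (hidx : S.index = 1 ∨ S.index = 2) (P : Sylow 5 H)
    (hTI : H34.TI.IsTI (P : Subgroup H)) : Dat S (P : Subgroup H) := by
  obtain ⟨C, ho, hc, -⟩ := exists_cls hS
  obtain ⟨h125, h5⟩ := card_P hS hidx P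
  have hsq : ∀ x : H, x * x ∈ S := by
    rcases hidx with h | h
    · rw [index_eq_one] at h
      rw [h]
      exact fun x => mem_top _
    · intro x
      exact mul_self_mem_of_index_two h x
  have hx125 : ∀ x ∈ (P : Subgroup H), orderOf x ∣ 125 := fun x hx => by
    rw [← h125]
    exact Subgroup.orderOf_dvd_natCard _ hx
  have hPS : (P : Subgroup H) ≤ S := by
    intro x hx
    have h1 : x ^ 125 = 1 := orderOf_dvd_iff_pow_eq_one.1 (hx125 x hx)
    have h2 : x ^ 63 * x ^ 63 = x := by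
      rw [← pow_add]
      show x ^ 126 = x
      rw [pow_succ, h1, one_mul]
    rw [← h2]
    exact hsq _
  have hord : ∀ x : S, ∃ i : Fin 24, IsConj (C.x i) x ∧ os i = orderOf (x : H) ∧ cc i = cT S (x : H) := by
    intro x
    obtain ⟨i, hi⟩ := C.cover x
    refine ⟨i, hi, ?_, ?_⟩
    · rw [← ho, C.o_eq hi, Subgroup.orderOf_coe]
    · rw [← hc, C.c_eq hi, cT_eq]
  have hP5 : ∀ x ∈ (P : Subgroup H), x ^ 5 = 1 := by
    intro x hx
    obtain ⟨i, -, hi, -⟩ := hord ⟨x, hPS hx⟩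
    have h1 := hx125 x hx
    have h2 : os i = orderOf x := hi
    rw [← h2] at h1
    exact orderOf_dvd_iff_pow_eq_one.1 (h2 ▸ q1 i h1)
  have hord5 : ∀ {x : H}, x ^ 5 = 1 → x ≠ 1 → orderOf x = 5 := fun h h' =>
    orderOf_eq_prime (hp := ⟨Nat.prime_five⟩) h h'
  have hex : ∀ i : Fin 24, os i = 5 → ∃ x ∈ (P : Subgroup H), x ≠ 1 ∧ cT S x = cc i := by
    intro i hi
    have h1 : orderOf ((C.x i : S) : H) = 5 := by
      rw [Subgroup.orderOf_coe, C.order, ho, hi]
    obtain ⟨g, hg⟩ := exists_conj_mem P h1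
    refine ⟨_, hg, ?_, ?_⟩
    · intro h
      rw [conj_eq_one_iff] at h
      rw [h, orderOf_one] at h1
      norm_num at h1
    · rw [cT_conj', cT_eq, ← hc, C.card]
  refine { Tn := hSn, PT := hPS, Pc := h125, Pidx := h5, P5 := hP5, five := ?_, conj := ?_, exA := ?_, exB := ?_, ti := ?_, no24 := ?_ }
  · intro x hx hx5 hx1
    obtain ⟨i, -, hi, hi'⟩ := hord ⟨x, hx⟩
    have h1 : os i = 5 := hi.trans (hord5 hx5 hx1)
    have h2 : cc i = cT S x := hi'
    rw [← h2]
    exact q2 i h1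
  · intro x hx y hy hx5 hy5 hx1 hy1 hxy
    obtain ⟨i, hi1, hi2, hi3⟩ := hord ⟨x, hx⟩
    obtain ⟨j, hj1, hj2, hj3⟩ := hord ⟨y, hy⟩
    have h1 : i = j := q3 i j (hi2.trans (hord5 hx5 hx1)) (hj2.trans (hord5 hy5 hy1)) (by
      rw [hi3, hj3]
      exact hxy)
    subst h1
    obtain ⟨t, ht⟩ := isConj_iff.1 (hi1.symm.trans hj1)
    exact ⟨t, t.2, congrArg Subtype.val ht⟩
  · obtain ⟨x, hx, hx1, h⟩ := hex 5 q5.1
    exact ⟨x, hx, hx1, h.trans q5.2.1⟩
  · obtain ⟨x, hx, hx1, h⟩ := hex 6 q5.2.2.1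
    exact ⟨x, hx, hx1, h.trans q5.2.2.2⟩
  · intro g y hy hy1 hgy
    by_contra hg
    have h1 := hTI g hg
    have h2 : g * y * g⁻¹ ∈ (P : Subgroup H) ⊓ (MulAut.conj g • (P : Subgroup H)) :=
      mem_inf.2 ⟨hgy, smul_mem_pointwise_smul y (MulAut.conj g) _ hy⟩
    rw [h1, mem_bot, conj_eq_one_iff] at h2
    exact hy1 h2
  · intro x hx h24
    obtain ⟨i, -, hi, -⟩ := hord ⟨x, hx⟩
    exact q4 i (hi.trans h24)

/-- outer elements do not commute with elements of order 15 -/
theorem dfive [hSn : S.Normal] (hS : Spor.IsoMcL S) (hidx : S.index = 1 ∨ S.index = 2)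
    (hC : centralizer (S : Set H) = ⊥) : ∀ x, x ∉ S → ∀ y ∈ S, orderOf y = 15 → x * y ≠ y * x := by
  intro x hx y hy hy15 hxy
  obtain ⟨C, ho, hc, hiv⟩ := exists_cls hS
  have h15 : orderOf (⟨y, hy⟩ : S) = 15 := by
    rw [← Subgroup.orderOf_coe]
    exact hy15
  have h1 := C.swap hS (by rw [ho, hiv]; exact p1) (not_inner' hC hx) (t := ⟨y, hy⟩) (by rw [h15]; rfl)
  have h2 : (MulAut.conjNormal x : MulAut S) ⟨y, hy⟩ = ⟨y, hy⟩ := by
    refine Subtype.ext ?_
    rw [conj_eq]
    show x * y * x⁻¹ = y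
    rw [hxy, mul_inv_cancel_right]
  rw [h2] at h1
  obtain ⟨i, hi⟩ := C.cover ⟨y, hy⟩
  have h3 : IsConj (C.x (C.inv i)) (C.x i) := (C.hinv i).trans ((isConj_inv hi).trans (h1.symm.trans hi.symm))
  have h4 := C.inj _ _ h3
  rw [hiv] at h4
  refine p1' i ?_ h4
  rw [← ho, C.o_eq hi, h15]
  rfl

/-- **The local number.** -/
theorem k_quot [hSn : S.Normal] (hS : Spor.IsoMcL S) (hidx : S.index = 1 ∨ S.index = 2)
    (hC : centralizer (S : Set H) = ⊥) (P : Sylow 5 H) (hTI : H34.TI.IsTI (P : Subgroup H)) :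
    (S.index = 1 → Nat.card (ConjClasses ((normalizer ((P : Subgroup H) : Set H)) ⧸
      (P : Subgroup H).subgroupOf (normalizer ((P : Subgroup H) : Set H)))) = 12) ∧
    (S.index = 2 → Nat.card (ConjClasses ((normalizer ((P : Subgroup H) : Set H)) ⧸
      (P : Subgroup H).subgroupOf (normalizer ((P : Subgroup H) : Set H)))) = 18) :=
  (dat hS hidx P hTI).count_quot P hidx (dfive hS hidx hC)

end Build

end Cfsg.Agent.H41.McLTwo
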