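import Cfsg.Agent.H41.McLTwo.LocD
import Cfsg.Agent.H359.CT.McLChar
import Cfsg.Agent.H608.TI.LocGen

/-!
# S4819 / S4820: the counts for `McL` and `McL.2`, `p = 5` (helper41, task 5084)

* `hloc` : the class number 19 and the order 3000 of the normalizer of a Sylow 5-subgroup of `McL`;
* `cnt_mcl` : `Cnt 5` for `McL`;
* `cnt_mcl_two` : `Cnt 5` for `McL.2`.
-/

set_option autoImplicit false
set_option maxRecDepth 100000

namespace Cfsg.Agent.H41.McLTwo

open Cfsg Subgroup Cfsg.Agent.H359.CT.McL Cfsg.Agent.H447.CTab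
open Cfsg.Agent.H41.McLTwo.Ords (os iv order_xs)
open scoped Pointwise

universe u

/-- counting of classes -/
theorem Cls.card_eq {T : Type u} [Group T] [Finite T] {k : ℕ} (C : Cls T k) (P : ConjClasses T → Prop) (p : Fin k → Bool)
    (h : ∀ i, P (ConjClasses.mk (C.x i)) ↔ p i = true) :
    Nat.card {c : ConjClasses T // P c} = (Finset.univ.filter fun i => p i = true).card := by
  classical
  rw [← Fintype.card_subtype, ← Nat.card_eq_fintype_card]
  symm
  refine Nat.card_congr (Equiv.ofBijective (fun i => (⟨ConjClasses.mk (C.x i.1), (h i.1).2 i.2⟩ :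
    {c : ConjClasses T // P c})) ⟨?_, ?_⟩)
  · intro i j hij
    exact Subtype.ext (C.inj _ _ (ConjClasses.mk_eq_mk_iff_isConj.1 (congrArg Subtype.val hij)))
  · rintro ⟨c, hc⟩
    obtain ⟨g, rfl⟩ := ConjClasses.mk_surjective c
    obtain ⟨i, hi⟩ := C.cover g
    have h1 := ConjClasses.mk_eq_mk_iff_isConj.2 hi
    exact ⟨⟨i, (h i).1 (by rw [h1]; exact hc)⟩, Subtype.ext h1⟩

theorem psing : (Finset.univ.filter fun i : Fin 24 => (5 ∣ os i : Bool) = true).card = 7 := by decide +kernel

theorem card_sing_mcl {X : Type u} [Group X] [Finite X] (h : Spor.IsoMcL X) : Nat.card (H34.TI.Sing 5 X) = 7 := by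
  obtain ⟨C, ho, -, -⟩ := exists_cls h
  have h1 := C.card_eq (fun c => 5 ∣ orderOf c.out) (fun i => (5 ∣ os i : Bool)) (fun i => by
    have h2 : orderOf (Quotient.out (ConjClasses.mk (C.x i))) = os i := by
      rw [← ho, ← C.order]
      exact orderOf_isConj (ConjClasses.mk_eq_mk_iff_isConj.1 (Quotient.out_eq (ConjClasses.mk (C.x i))))
    show 5 ∣ orderOf (Quotient.out (ConjClasses.mk (C.x i))) ↔ _
    rw [h2, decide_eq_true_iff])
  rw [psing] at h1
  exact h1

section One

variable {X : Type u} [Group X] [Finite X]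

theorem iso_top (h : Spor.IsoMcL X) : Spor.IsoMcL (⊤ : Subgroup X) := by
  obtain ⟨e⟩ := h
  exact ⟨Subgroup.topEquiv.trans e⟩

theorem dat_top (h : Spor.IsoMcL X) (R : Sylow 5 X) (hR : H34.TI.IsTI (R : Subgroup X)) : Dat ⊤ (R : Subgroup X) :=
  dat (iso_top h) (Or.inl index_top) R hR

theorem k_quot_one (h : Spor.IsoMcL X) (R : Sylow 5 X) (hR : H34.TI.IsTI (R : Subgroup X)) :
    Nat.card (ConjClasses ((normalizer ((R : Subgroup X) : Set X)) ⧸
      (R : Subgroup X).subgroupOf (normalizer ((R : Subgroup X) : Set X)))) = 12 :=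
  ((dat_top h R hR).count_quot R (Or.inl index_top) (fun x hx => absurd (mem_top x) hx)).1 index_top

/-- **The normalizer of a Sylow 5-subgroup of `McL`.** -/
theorem hloc (h : Spor.IsoMcL X) (R : Sylow 5 X) (hR : H34.TI.IsTI (R : Subgroup X)) :
    Nat.card (ConjClasses (normalizer ((R : Subgroup X) : Set X))) = 19 ∧
      ¬ 9 ∣ Nat.card (normalizer ((R : Subgroup X) : Set X)) := by
  have : Fact (Nat.Prime 5) := ⟨Nat.prime_five⟩
  refine ⟨?_, ?_⟩
  · rw [H608.TI.locGen 5 X R hR, k_quot_one h R hR, card_sing_mcl h]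
  · have h1 := (dat_top h R hR).numbers.2
    rw [top_inf_eq] at h1
    rw [h1]
    norm_num

end One

/-- the data of `McL` -/
noncomputable def mclData {G : Type u} [Group G] [Finite G] (e : G ≃* ↥Cfsg.Agent.McLType.Gens.K0) : McLData G :=
  McLData.mk' e (clT e) (fun _ => rfl) (fun _ => rfl) (tab e) (fun a => (R a 0).toNat) (fun b => (P b 0).toNat / 2)
    (fun _ => rfl) (fun _ => rfl) (by decide +kernel) (by decide +kernel) (by decide +kernel) (by decide +kernel)
    (by decide +kernel) (by decide +kernel)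

/-- **The row `McL.2`.** -/
theorem cnt_mcl_two {H : Type u} [Group H] [Finite H] (h : H34.TI.AS (fun S _ => Spor.IsoMcL S) 2 H) : H34.TI.Cnt 5 H := by
  obtain ⟨S, hSn, hidx, hC, hS⟩ := h
  obtain ⟨e1⟩ := id hS
  obtain ⟨e2⟩ := iso_K0
  exact cnt_of H608.TI.locGen (mclData (e1.trans e2.symm)) hidx hC hS
    fun P hP => (k_quot hS (Or.inr hidx) hC P hP).2 hidx

end Cfsg.Agent.H41.McLTwo
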